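import Cfsg.Agent.Lib.ChevOdd.Data.E8Base

/-! Tables for a class of involutions of the Chevalley group of type E8 over a field of odd order. -/

set_option autoImplicit false
set_option maxRecDepth 100000

namespace Cfsg.Agent.Lib.ChevOdd.Data.E8

open Cfsg.Lie Cfsg.Agent.Lib.ChevOdd.OddCert Cfsg.Agent.Lib.ChevOrder.Chain Cfsg.Agent.Lib.ChevOrder.Level
open Cfsg.Agent.Lib.ChevOdd.CentCard Cfsg.Agent.Lib.ChevOdd.Invol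

/-- The generators for the representative 3. -/
def gensB : List Gen := [([], 7), ([], 6), ([], 5), ([], 4), ([2], 3), ([], 1), ([], 0), ([3, 1, 4, 3, 2, 0, 5, 4, 3, 1, 2, 3, 4, 5], 6)]

/-- The mask of the positive roots centralised by the representative. -/
def maskB : ℕ := 0xfa8307c00003ff003ff400f83f03ff000000000000000000000000000000

/-- A level. -/
def levB0 : List (List ℤ × ℕ) := [
  ([Int.ofNat 0, Int.ofNat 0, Int.negSucc 0, Int.ofNat 1, Int.ofNat 0, Int.ofNat 0, Int.ofNat 0, Int.ofNat 0], 0),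
  ([Int.ofNat 0, Int.ofNat 0, Int.ofNat 1, Int.negSucc 0, Int.ofNat 0, Int.ofNat 0, Int.ofNat 0, Int.ofNat 2], 1),
  ([Int.ofNat 0, Int.ofNat 0, Int.ofNat 1, Int.negSucc 0, Int.ofNat 0, Int.ofNat 0, Int.ofNat 2, Int.negSucc 1], 2),
  ([Int.ofNat 0, Int.ofNat 0, Int.ofNat 1, Int.negSucc 0, Int.ofNat 0, Int.ofNat 2, Int.negSucc 1, Int.ofNat 0], 3),
  ([Int.ofNat 0, Int.ofNat 0, Int.ofNat 1, Int.negSucc 0, Int.ofNat 2, Int.negSucc 1, Int.ofNat 0, Int.ofNat 0], 4),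
  ([Int.ofNat 0, Int.ofNat 0, Int.ofNat 1, Int.ofNat 1, Int.negSucc 1, Int.ofNat 0, Int.ofNat 0, Int.ofNat 0], 5),
  ([Int.ofNat 2, Int.ofNat 2, Int.negSucc 0, Int.negSucc 0, Int.ofNat 0, Int.ofNat 0, Int.ofNat 0, Int.ofNat 0], 6),
  ([Int.ofNat 2, Int.negSucc 1, Int.negSucc 0, Int.ofNat 1, Int.ofNat 0, Int.ofNat 0, Int.ofNat 0, Int.ofNat 0], 7),
  ([Int.negSucc 1, Int.ofNat 2, Int.ofNat 1, Int.negSucc 0, Int.ofNat 0, Int.ofNat 0, Int.ofNat 0, Int.ofNat 0], 7),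
  ([Int.negSucc 1, Int.negSucc 1, Int.ofNat 1, Int.ofNat 1, Int.ofNat 0, Int.ofNat 0, Int.ofNat 0, Int.ofNat 0], 8),
  ([Int.ofNat 0, Int.ofNat 0, Int.negSucc 0, Int.negSucc 0, Int.ofNat 2, Int.ofNat 0, Int.ofNat 0, Int.ofNat 0], 9),
  ([Int.ofNat 0, Int.ofNat 0, Int.negSucc 0, Int.ofNat 1, Int.negSucc 1, Int.ofNat 2, Int.ofNat 0, Int.ofNat 0], 10),
  ([Int.ofNat 0, Int.ofNat 0, Int.negSucc 0, Int.ofNat 1, Int.ofNat 0, Int.negSucc 1, Int.ofNat 2, Int.ofNat 0], 11),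
  ([Int.ofNat 0, Int.ofNat 0, Int.negSucc 0, Int.ofNat 1, Int.ofNat 0, Int.ofNat 0, Int.negSucc 1, Int.ofNat 2], 12),
  ([Int.ofNat 0, Int.ofNat 0, Int.negSucc 0, Int.ofNat 1, Int.ofNat 0, Int.ofNat 0, Int.ofNat 0, Int.negSucc 1], 13),
  ([Int.ofNat 0, Int.ofNat 0, Int.ofNat 1, Int.negSucc 0, Int.ofNat 0, Int.ofNat 0, Int.ofNat 0, Int.ofNat 0], 14)]

/-- A level. -/
def levB1 : List (List ℤ × ℕ) := [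
  ([Int.ofNat 0, Int.ofNat 0, Int.ofNat 0, Int.ofNat 0, Int.ofNat 0, Int.ofNat 0, Int.ofNat 0, Int.ofNat 1], 0),
  ([Int.ofNat 0, Int.ofNat 0, Int.ofNat 0, Int.ofNat 0, Int.ofNat 0, Int.ofNat 0, Int.ofNat 1, Int.negSucc 0], 1),
  ([Int.ofNat 0, Int.ofNat 0, Int.ofNat 0, Int.ofNat 0, Int.ofNat 0, Int.ofNat 1, Int.negSucc 0, Int.ofNat 0], 2),
  ([Int.ofNat 0, Int.ofNat 0, Int.ofNat 0, Int.ofNat 0, Int.ofNat 1, Int.negSucc 0, Int.ofNat 0, Int.ofNat 0], 3),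
  ([Int.ofNat 0, Int.ofNat 0, Int.ofNat 0, Int.ofNat 1, Int.negSucc 0, Int.ofNat 0, Int.ofNat 0, Int.ofNat 0], 4),
  ([Int.ofNat 1, Int.ofNat 1, Int.negSucc 0, Int.ofNat 0, Int.ofNat 0, Int.ofNat 0, Int.ofNat 0, Int.ofNat 0], 5),
  ([Int.ofNat 1, Int.negSucc 0, Int.negSucc 0, Int.ofNat 1, Int.ofNat 0, Int.ofNat 0, Int.ofNat 0, Int.ofNat 0], 6),
  ([Int.negSucc 0, Int.ofNat 1, Int.ofNat 0, Int.ofNat 0, Int.ofNat 0, Int.ofNat 0, Int.ofNat 0, Int.ofNat 0], 6),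
  ([Int.negSucc 0, Int.negSucc 0, Int.ofNat 0, Int.ofNat 1, Int.ofNat 0, Int.ofNat 0, Int.ofNat 0, Int.ofNat 0], 7),
  ([Int.ofNat 0, Int.ofNat 0, Int.negSucc 0, Int.ofNat 0, Int.ofNat 1, Int.ofNat 0, Int.ofNat 0, Int.ofNat 0], 8),
  ([Int.ofNat 0, Int.ofNat 0, Int.negSucc 0, Int.ofNat 1, Int.negSucc 0, Int.ofNat 1, Int.ofNat 0, Int.ofNat 0], 9),
  ([Int.ofNat 0, Int.ofNat 0, Int.negSucc 0, Int.ofNat 1, Int.ofNat 0, Int.negSucc 0, Int.ofNat 1, Int.ofNat 0], 10),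
  ([Int.ofNat 0, Int.ofNat 0, Int.negSucc 0, Int.ofNat 1, Int.ofNat 0, Int.ofNat 0, Int.negSucc 0, Int.ofNat 1], 11),
  ([Int.ofNat 0, Int.ofNat 0, Int.negSucc 0, Int.ofNat 1, Int.ofNat 0, Int.ofNat 0, Int.ofNat 0, Int.negSucc 0], 12)]

/-- A level. -/
def levB2 : List (List ℤ × ℕ) := [
  ([Int.ofNat 0, Int.ofNat 0, Int.ofNat 1, Int.negSucc 0, Int.ofNat 0, Int.ofNat 0, Int.ofNat 2, Int.ofNat 0], 0),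
  ([Int.ofNat 0, Int.ofNat 0, Int.ofNat 1, Int.negSucc 0, Int.ofNat 0, Int.ofNat 2, Int.negSucc 1, Int.ofNat 2], 1),
  ([Int.ofNat 0, Int.ofNat 0, Int.ofNat 1, Int.negSucc 0, Int.ofNat 2, Int.negSucc 1, Int.ofNat 0, Int.ofNat 2], 2),
  ([Int.ofNat 0, Int.ofNat 0, Int.ofNat 1, Int.ofNat 1, Int.negSucc 1, Int.ofNat 0, Int.ofNat 0, Int.ofNat 2], 3),
  ([Int.ofNat 2, Int.ofNat 2, Int.negSucc 0, Int.negSucc 0, Int.ofNat 0, Int.ofNat 0, Int.ofNat 0, Int.ofNat 2], 4),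
  ([Int.ofNat 2, Int.negSucc 1, Int.negSucc 0, Int.ofNat 1, Int.ofNat 0, Int.ofNat 0, Int.ofNat 0, Int.ofNat 2], 5),
  ([Int.negSucc 1, Int.ofNat 2, Int.ofNat 1, Int.negSucc 0, Int.ofNat 0, Int.ofNat 0, Int.ofNat 0, Int.ofNat 2], 5),
  ([Int.negSucc 1, Int.negSucc 1, Int.ofNat 1, Int.ofNat 1, Int.ofNat 0, Int.ofNat 0, Int.ofNat 0, Int.ofNat 2], 6),
  ([Int.ofNat 0, Int.ofNat 0, Int.negSucc 0, Int.negSucc 0, Int.ofNat 2, Int.ofNat 0, Int.ofNat 0, Int.ofNat 2], 7),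
  ([Int.ofNat 0, Int.ofNat 0, Int.negSucc 0, Int.ofNat 1, Int.negSucc 1, Int.ofNat 2, Int.ofNat 0, Int.ofNat 2], 8),
  ([Int.ofNat 0, Int.ofNat 0, Int.negSucc 0, Int.ofNat 1, Int.ofNat 0, Int.negSucc 1, Int.ofNat 2, Int.ofNat 2], 9),
  ([Int.ofNat 0, Int.ofNat 0, Int.negSucc 0, Int.ofNat 1, Int.ofNat 0, Int.ofNat 0, Int.negSucc 1, Int.ofNat 4], 10)]

/-- A level. -/
def levB3 : List (List ℤ × ℕ) := [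
  ([Int.ofNat 0, Int.ofNat 0, Int.ofNat 1, Int.negSucc 0, Int.ofNat 0, Int.ofNat 1, Int.ofNat 0, Int.ofNat 0], 0),
  ([Int.ofNat 0, Int.ofNat 0, Int.ofNat 1, Int.negSucc 0, Int.ofNat 1, Int.negSucc 0, Int.ofNat 1, Int.ofNat 0], 1),
  ([Int.ofNat 0, Int.ofNat 0, Int.ofNat 1, Int.ofNat 0, Int.negSucc 0, Int.ofNat 0, Int.ofNat 1, Int.ofNat 0], 2),
  ([Int.ofNat 1, Int.ofNat 1, Int.ofNat 0, Int.negSucc 0, Int.ofNat 0, Int.ofNat 0, Int.ofNat 1, Int.ofNat 0], 3),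
  ([Int.ofNat 1, Int.negSucc 0, Int.ofNat 0, Int.ofNat 0, Int.ofNat 0, Int.ofNat 0, Int.ofNat 1, Int.ofNat 0], 4),
  ([Int.negSucc 0, Int.ofNat 1, Int.ofNat 1, Int.negSucc 0, Int.ofNat 0, Int.ofNat 0, Int.ofNat 1, Int.ofNat 0], 4),
  ([Int.negSucc 0, Int.negSucc 0, Int.ofNat 1, Int.ofNat 0, Int.ofNat 0, Int.ofNat 0, Int.ofNat 1, Int.ofNat 0], 5),
  ([Int.ofNat 0, Int.ofNat 0, Int.ofNat 0, Int.negSucc 0, Int.ofNat 1, Int.ofNat 0, Int.ofNat 1, Int.ofNat 0], 6),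
  ([Int.ofNat 0, Int.ofNat 0, Int.ofNat 0, Int.ofNat 0, Int.negSucc 0, Int.ofNat 1, Int.ofNat 1, Int.ofNat 0], 7),
  ([Int.ofNat 0, Int.ofNat 0, Int.ofNat 0, Int.ofNat 0, Int.ofNat 0, Int.negSucc 0, Int.ofNat 2, Int.ofNat 0], 8)]

/-- A level. -/
def levB4 : List (List ℤ × ℕ) := [
  ([Int.ofNat 0, Int.ofNat 0, Int.ofNat 3, Int.negSucc 2, Int.ofNat 2, Int.ofNat 0, Int.ofNat 0, Int.ofNat 0], 0),
  ([Int.ofNat 0, Int.ofNat 0, Int.ofNat 3, Int.negSucc 0, Int.negSucc 1, Int.ofNat 2, Int.ofNat 0, Int.ofNat 0], 1),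
  ([Int.ofNat 2, Int.ofNat 2, Int.ofNat 1, Int.negSucc 2, Int.ofNat 0, Int.ofNat 2, Int.ofNat 0, Int.ofNat 0], 2),
  ([Int.ofNat 2, Int.negSucc 1, Int.ofNat 1, Int.negSucc 0, Int.ofNat 0, Int.ofNat 2, Int.ofNat 0, Int.ofNat 0], 3),
  ([Int.negSucc 1, Int.ofNat 2, Int.ofNat 3, Int.negSucc 2, Int.ofNat 0, Int.ofNat 2, Int.ofNat 0, Int.ofNat 0], 3),
  ([Int.negSucc 1, Int.negSucc 1, Int.ofNat 3, Int.negSucc 0, Int.ofNat 0, Int.ofNat 2, Int.ofNat 0, Int.ofNat 0], 4),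
  ([Int.ofNat 0, Int.ofNat 0, Int.ofNat 1, Int.negSucc 2, Int.ofNat 2, Int.ofNat 2, Int.ofNat 0, Int.ofNat 0], 5),
  ([Int.ofNat 0, Int.ofNat 0, Int.ofNat 1, Int.negSucc 0, Int.negSucc 1, Int.ofNat 4, Int.ofNat 0, Int.ofNat 0], 6)]

/-- A level. -/
def levB5 : List (List ℤ × ℕ) := [
  ([Int.ofNat 0, Int.ofNat 1, Int.ofNat 1, Int.negSucc 0, Int.ofNat 0, Int.ofNat 0, Int.ofNat 0, Int.ofNat 0], 0),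
  ([Int.ofNat 0, Int.negSucc 0, Int.ofNat 1, Int.ofNat 0, Int.ofNat 0, Int.ofNat 0, Int.ofNat 0, Int.ofNat 0], 1),
  ([Int.ofNat 1, Int.ofNat 0, Int.ofNat 0, Int.negSucc 0, Int.ofNat 1, Int.ofNat 0, Int.ofNat 0, Int.ofNat 0], 2),
  ([Int.negSucc 0, Int.ofNat 0, Int.ofNat 1, Int.negSucc 0, Int.ofNat 1, Int.ofNat 0, Int.ofNat 0, Int.ofNat 0], 3)]

/-- A level. -/
def levB6 : List (List ℤ × ℕ) := [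
  ([Int.ofNat 0, Int.ofNat 0, Int.ofNat 2, Int.negSucc 0, Int.ofNat 0, Int.ofNat 0, Int.ofNat 0, Int.ofNat 0], 0),
  ([Int.ofNat 1, Int.ofNat 1, Int.ofNat 1, Int.negSucc 1, Int.ofNat 1, Int.ofNat 0, Int.ofNat 0, Int.ofNat 0], 1),
  ([Int.negSucc 0, Int.ofNat 1, Int.ofNat 2, Int.negSucc 1, Int.ofNat 1, Int.ofNat 0, Int.ofNat 0, Int.ofNat 0], 2)]

/-- A level. -/
def levB7 : List (List ℤ × ℕ) := [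
  ([Int.ofNat 2, Int.ofNat 0, Int.ofNat 1, Int.negSucc 0, Int.ofNat 0, Int.ofNat 0, Int.ofNat 0, Int.ofNat 0], 0),
  ([Int.negSucc 1, Int.ofNat 0, Int.ofNat 3, Int.negSucc 0, Int.ofNat 0, Int.ofNat 0, Int.ofNat 0, Int.ofNat 0], 1)]

/-- The chain. -/
def chainB : List Lev1 := [(7, [Int.ofNat 0, Int.ofNat 0, Int.negSucc 0, Int.ofNat 1, Int.ofNat 0, Int.ofNat 0, Int.ofNat 0, Int.ofNat 0], levB0), (0, [Int.ofNat 0, Int.ofNat 0, Int.ofNat 0, Int.ofNat 0, Int.ofNat 0, Int.ofNat 0, Int.ofNat 0, Int.ofNat 1], levB1), (1, [Int.ofNat 0, Int.ofNat 0, Int.ofNat 1, Int.negSucc 0, Int.ofNat 0, Int.ofNat 0, Int.ofNat 2, Int.ofNat 0], levB2), (2, [Int.ofNat 0, Int.ofNat 0, Int.ofNat 1, Int.negSucc 0, Int.ofNat 0, Int.ofNat 1, Int.ofNat 0, Int.ofNat 0], levB3), (3, [Int.ofNat 0, Int.ofNat 0, Int.ofNat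 3, Int.negSucc 2, Int.ofNat 2, Int.ofNat 0, Int.ofNat 0, Int.ofNat 0], levB4), (5, [Int.ofNat 0, Int.ofNat 1, Int.ofNat 1, Int.negSucc 0, Int.ofNat 0, Int.ofNat 0, Int.ofNat 0, Int.ofNat 0], levB5), (4, [Int.ofNat 0, Int.ofNat 0, Int.ofNat 2, Int.negSucc 0, Int.ofNat 0, Int.ofNat 0, Int.ofNat 0, Int.ofNat 0], levB6), (6, [Int.ofNat 2, Int.ofNat 0, Int.ofNat 1, Int.negSucc 0, Int.ofNat 0, Int.ofNat 0, Int.ofNat 0, Int.ofNat 0], levB7)]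

/-- The orbit. -/
def wordsB : List (List ℕ) := [[], [2, 0], [2], [3, 1], [3], [3, 1, 4, 3], [3, 1, 4, 3, 2, 0, 5, 4, 3, 1, 2, 3, 4, 5], [3, 1, 4, 3, 2, 0], [3, 1, 4, 3, 2], [3, 1, 4], [3, 4], [3, 1, 4, 3, 5, 4], [3, 1, 4, 3, 2, 0, 5, 4, 3, 1, 2, 3], [3, 1, 4, 3, 2, 0, 5, 4], [3, 1, 4, 3, 2, 5, 4], [3, 1, 4, 3, 2, 0, 5, 4, 3, 2], [3, 1, 4, 3, 2, 0, 5, 4, 3, 1, 2], [3, 1, 4, 3, 2, 0, 5, 4, 3], [3, 1, 4, 3, 2, 5, 4, 3], [3, 1, 4, 3, 2, 0, 5, 4, 3, 1], [3, 1, 4, 3, 2, 5, 4, 3, 1], [3, 1, 4, 3, 5], [3, 1, 4, 3, 2, 0, 5, 4, 3, 1, 2, 3, 4], [3, 1, 4, 3, 2, 0, 5], [3, 1, 4, 3, 2, 5], [3, 1, 4, 5], [3, 4, 5], [3, 1, 4, 3, 5, 4, 6, 5], [3, 1, 4, 3, 2, 0, 5, 4, 3, 1, 2, 3, 6, 5], [3, 1, 4, 3, 2, 0, 5, 4, 6, 5], [3, 1, 4, 3, 2, 5, 4, 6, 5], [3, 1, 4, 3, 2, 0, 5, 4, 3, 2, 6, 5], [3, 1, 4, 3, 2, 0,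 5, 4, 3, 1, 2, 6, 5], [3, 1, 4, 3, 2, 0, 5, 4, 3, 6, 5], [3, 1, 4, 3, 2, 5, 4, 3, 6, 5], [3, 1, 4, 3, 2, 0, 5, 4, 3, 1, 6, 5], [3, 1, 4, 3, 2, 5, 4, 3, 1, 6, 5], [3, 1, 4, 3, 2, 0, 5, 4, 3, 2, 6, 5, 4, 3], [3, 1, 4, 3, 2, 5, 4, 3, 1, 6, 5, 4, 3, 2], [3, 1, 4, 3, 2, 0, 5, 4, 3, 1, 6, 5, 4, 3], [3, 1, 4, 3, 2, 5, 4, 3, 1, 6, 5, 4, 3], [3, 1, 4, 3, 2, 0, 5, 4, 3, 2, 6, 5, 4], [3, 1, 4, 3, 2, 0, 5, 4, 3, 1, 2, 6, 5, 4], [3, 1, 4, 3, 2, 0, 5, 4, 3, 6, 5, 4], [3, 1, 4, 3, 2, 5, 4, 3, 6, 5, 4], [3, 1, 4, 3, 2, 0, 5, 4, 3, 1, 6, 5, 4], [3, 1, 4, 3, 2, 5, 4, 3, 1, 6, 5, 4], [3, 1, 4, 3, 5, 4, 6], [3, 1, 4, 3, 2, 0, 5, 4, 3, 1, 2, 3, 6], [3, 1, 4, 3, 2, 0, 5, 4, 6], [3, 1, 4, 3, 2, 5, 4, 6], [3, 1, 4, 3, 2, 0, 5, 4, 3, 2, 6], [3, 1, 4, 3, 2, 0, 5, 4, 3, 1, 2, 6], [3, 1, 4, 3, 2, 0, 5, 4, 3, 6],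 [3, 1, 4, 3, 2, 5, 4, 3, 6], [3, 1, 4, 3, 2, 0, 5, 4, 3, 1, 6], [3, 1, 4, 3, 2, 5, 4, 3, 1, 6], [3, 1, 4, 3, 5, 6], [3, 1, 4, 3, 2, 0, 5, 4, 3, 1, 2, 3, 4, 6], [3, 1, 4, 3, 2, 0, 5, 6], [3, 1, 4, 3, 2, 5, 6], [3, 1, 4, 5, 6], [3, 4, 5, 6], [3, 1, 4, 3, 5, 4, 6, 5, 7, 6], [3, 1, 4, 3, 2, 0, 5, 4, 3, 1, 2, 3, 6, 5, 7, 6], [3, 1, 4, 3, 2, 0, 5, 4, 6, 5, 7, 6], [3, 1, 4, 3, 2, 5, 4, 6, 5, 7, 6], [3, 1, 4, 3, 2, 0, 5, 4, 3, 2, 6, 5, 7, 6], [3, 1, 4, 3, 2, 0, 5, 4, 3, 1, 2, 6, 5, 7, 6], [3, 1, 4, 3, 2, 0, 5, 4, 3, 6, 5, 7, 6], [3, 1, 4, 3, 2, 5, 4, 3, 6, 5, 7, 6], [3, 1, 4, 3, 2, 0, 5, 4, 3, 1, 6, 5, 7, 6], [3, 1, 4, 3, 2, 5, 4, 3, 1, 6, 5, 7, 6], [3, 1, 4, 3, 2, 0, 5, 4, 3, 2, 6, 5, 4, 3, 7, 6], [3, 1, 4, 3, 2, 5, 4, 3, 1, 6, 5, 4, 3, 2, 7, 6], [3, 1, 4, 3, 2, 0, 5, 4, 3, 1, 6, 5, 4, 3, 7,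 6], [3, 1, 4, 3, 2, 5, 4, 3, 1, 6, 5, 4, 3, 7, 6], [3, 1, 4, 3, 2, 0, 5, 4, 3, 2, 6, 5, 4, 7, 6], [3, 1, 4, 3, 2, 0, 5, 4, 3, 1, 2, 6, 5, 4, 7, 6], [3, 1, 4, 3, 2, 0, 5, 4, 3, 6, 5, 4, 7, 6], [3, 1, 4, 3, 2, 5, 4, 3, 6, 5, 4, 7, 6], [3, 1, 4, 3, 2, 0, 5, 4, 3, 1, 6, 5, 4, 7, 6], [3, 1, 4, 3, 2, 5, 4, 3, 1, 6, 5, 4, 7, 6], [3, 1, 4, 3, 2, 0, 5, 4, 3, 2, 6, 5, 4, 3, 7, 6, 5, 4], [3, 1, 4, 3, 2, 5, 4, 3, 1, 6, 5, 4, 3, 2, 7, 6, 5, 4], [3, 1, 4, 3, 2, 0, 5, 4, 3, 1, 6, 5, 4, 3, 7, 6, 5, 4], [3, 1, 4, 3, 2, 5, 4, 3, 1, 6, 5, 4, 3, 7, 6, 5, 4], [3, 1, 4, 3, 2, 5, 4, 3, 1, 6, 5, 4, 3, 2, 7, 6, 5, 4, 3, 1], [3, 1, 4, 3, 2, 5, 4, 3, 1, 6, 5, 4, 3, 2, 7, 6, 5, 4, 3], [3, 1, 4, 3, 2, 0, 5, 4, 3, 2, 6, 5, 4, 3, 7, 6, 5], [3, 1, 4, 3, 2, 5, 4, 3, 1, 6, 5, 4, 3, 2, 7, 6, 5], [3, 1, 4, 3, 2, 0, 5, 4,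 3, 1, 6, 5, 4, 3, 7, 6, 5], [3, 1, 4, 3, 2, 5, 4, 3, 1, 6, 5, 4, 3, 7, 6, 5], [3, 1, 4, 3, 2, 0, 5, 4, 3, 2, 6, 5, 4, 7, 6, 5], [3, 1, 4, 3, 2, 0, 5, 4, 3, 1, 2, 6, 5, 4, 7, 6, 5], [3, 1, 4, 3, 2, 0, 5, 4, 3, 6, 5, 4, 7, 6, 5], [3, 1, 4, 3, 2, 5, 4, 3, 6, 5, 4, 7, 6, 5], [3, 1, 4, 3, 2, 0, 5, 4, 3, 1, 6, 5, 4, 7, 6, 5], [3, 1, 4, 3, 2, 5, 4, 3, 1, 6, 5, 4, 7, 6, 5], [3, 1, 4, 3, 5, 4, 6, 5, 7], [3, 1, 4, 3, 2, 0, 5, 4, 3, 1, 2, 3, 6, 5, 7], [3, 1, 4, 3, 2, 0, 5, 4, 6, 5, 7], [3, 1, 4, 3, 2, 5, 4, 6, 5, 7], [3, 1, 4, 3, 2, 0, 5, 4, 3, 2, 6, 5, 7], [3, 1, 4, 3, 2, 0, 5, 4, 3, 1, 2, 6, 5, 7], [3, 1, 4, 3, 2, 0, 5, 4, 3, 6, 5, 7], [3, 1, 4, 3, 2, 5, 4, 3, 6, 5, 7], [3, 1, 4, 3, 2, 0, 5, 4, 3, 1, 6, 5, 7], [3, 1, 4, 3, 2, 5, 4, 3, 1, 6, 5, 7], [3, 1, 4, 3, 2, 0, 5, 4, 3, 2, 6, 5, 4, 3, 7],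 [3, 1, 4, 3, 2, 5, 4, 3, 1, 6, 5, 4, 3, 2, 7], [3, 1, 4, 3, 2, 0, 5, 4, 3, 1, 6, 5, 4, 3, 7], [3, 1, 4, 3, 2, 5, 4, 3, 1, 6, 5, 4, 3, 7], [3, 1, 4, 3, 2, 0, 5, 4, 3, 2, 6, 5, 4, 7], [3, 1, 4, 3, 2, 0, 5, 4, 3, 1, 2, 6, 5, 4, 7], [3, 1, 4, 3, 2, 0, 5, 4, 3, 6, 5, 4, 7], [3, 1, 4, 3, 2, 5, 4, 3, 6, 5, 4, 7], [3, 1, 4, 3, 2, 0, 5, 4, 3, 1, 6, 5, 4, 7], [3, 1, 4, 3, 2, 5, 4, 3, 1, 6, 5, 4, 7], [3, 1, 4, 3, 5, 4, 6, 7], [3, 1, 4, 3, 2, 0, 5, 4, 3, 1, 2, 3, 6, 7], [3, 1, 4, 3, 2, 0, 5, 4, 6, 7], [3, 1, 4, 3, 2, 5, 4, 6, 7], [3, 1, 4, 3, 2, 0, 5, 4, 3, 2, 6, 7], [3, 1, 4, 3, 2, 0, 5, 4, 3, 1, 2, 6, 7], [3, 1, 4, 3, 2, 0, 5, 4, 3, 6, 7], [3, 1, 4, 3, 2, 5, 4, 3, 6, 7], [3, 1, 4, 3, 2, 0, 5, 4, 3, 1, 6, 7], [3, 1, 4, 3, 2, 5, 4, 3, 1, 6, 7], [3, 1, 4, 3, 5, 6, 7], [3, 1, 4, 3, 2, 0, 5, 4, 3, 1,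 2, 3, 4, 6, 7], [3, 1, 4, 3, 2, 0, 5, 6, 7], [3, 1, 4, 3, 2, 5, 6, 7], [3, 1, 4, 5, 6, 7], [3, 4, 5, 6, 7]]

/-- The codes of the orbit. -/
def codesB : List ℕ := [3, 6, 7, 9, 11, 17, 18, 20, 21, 25, 27, 33, 34, 36, 37, 40, 42, 44, 45, 46, 47, 49, 50, 52, 53, 57, 59, 65, 66, 68, 69, 72, 74, 76, 77, 78, 79, 80, 83, 86, 87, 88, 90, 92, 93, 94, 95, 97, 98, 100, 101, 104, 106, 108, 109, 110, 111, 113, 114, 116, 117, 121, 123, 129, 130, 132, 133, 136, 138, 140, 141, 142, 143, 144, 147, 150, 151, 152, 154, 156, 157, 158, 159, 160, 163, 166, 167, 169, 171, 176, 179, 182, 183, 184, 186, 188, 189, 190, 191, 193, 194, 196, 197, 200, 202, 204, 205, 206, 207, 208, 211, 214, 215, 216, 218, 220, 221, 222, 223, 225, 226, 228, 229, 232, 234, 236, 237, 238, 239, 241, 242, 244, 245, 249, 251]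

set_option maxHeartbeats 0 in
theorem cGenB : chkGen fT chevE8 3 maskB gensB = true := by decide +kernel

theorem genB : GenCert chevE8 3 gensB := genCert_of fOk hTbl cGenB

theorem mask_okB : chkMask fT chevE8 3 maskB = true := chkMask_of_chkGen cGenB


set_option maxHeartbeats 0 in
theorem cLevB0 : checkLevelF fT chevE8 maskB gensB [0, 1, 2, 3, 5, 4, 6] 7 [Int.ofNat 0, Int.ofNat 0, Int.negSucc 0, Int.ofNat 1, Int.ofNat 0, Int.ofNat 0, Int.ofNat 0, Int.ofNat 0] levB0 = true := by decide +kernel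

set_option maxHeartbeats 0 in
theorem cLevB1 : checkLevelF fT chevE8 maskB gensB [1, 2, 3, 5, 4, 6] 0 [Int.ofNat 0, Int.ofNat 0, Int.ofNat 0, Int.ofNat 0, Int.ofNat 0, Int.ofNat 0, Int.ofNat 0, Int.ofNat 1] levB1 = true := by decide +kernel

set_option maxHeartbeats 0 in
theorem cLevB2 : checkLevelF fT chevE8 maskB gensB [2, 3, 5, 4, 6] 1 [Int.ofNat 0, Int.ofNat 0, Int.ofNat 1, Int.negSucc 0, Int.ofNat 0, Int.ofNat 0, Int.ofNat 2, Int.ofNat 0] levB2 = true := by decide +kernel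

set_option maxHeartbeats 0 in
theorem cLevB3 : checkLevelF fT chevE8 maskB gensB [3, 5, 4, 6] 2 [Int.ofNat 0, Int.ofNat 0, Int.ofNat 1, Int.negSucc 0, Int.ofNat 0, Int.ofNat 1, Int.ofNat 0, Int.ofNat 0] levB3 = true := by decide +kernel

set_option maxHeartbeats 0 in
theorem cLevB4 : checkLevelF fT chevE8 maskB gensB [5, 4, 6] 3 [Int.ofNat 0, Int.ofNat 0, Int.ofNat 3, Int.negSucc 2, Int.ofNat 2, Int.ofNat 0, Int.ofNat 0, Int.ofNat 0] levB4 = true := by decide +kernel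

set_option maxHeartbeats 0 in
theorem cLevB5 : checkLevelF fT chevE8 maskB gensB [4, 6] 5 [Int.ofNat 0, Int.ofNat 1, Int.ofNat 1, Int.negSucc 0, Int.ofNat 0, Int.ofNat 0, Int.ofNat 0, Int.ofNat 0] levB5 = true := by decide +kernel

set_option maxHeartbeats 0 in
theorem cLevB6 : checkLevelF fT chevE8 maskB gensB [6] 4 [Int.ofNat 0, Int.ofNat 0, Int.ofNat 2, Int.negSucc 0, Int.ofNat 0, Int.ofNat 0, Int.ofNat 0, Int.ofNat 0] levB6 = true := by decide +kernel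

set_option maxHeartbeats 0 in
theorem cLevB7 : checkLevelF fT chevE8 maskB gensB [] 6 [Int.ofNat 2, Int.ofNat 0, Int.ofNat 1, Int.negSucc 0, Int.ofNat 0, Int.ofNat 0, Int.ofNat 0, Int.ofNat 0] levB7 = true := by decide +kernel

theorem chkBF : checkChainF fT chevE8 maskB gensB chainB = true :=
  checkChainF_cons (by decide +kernel) cLevB0 (checkChainF_cons (by decide +kernel) cLevB1 (checkChainF_cons (by decide +kernel) cLevB2 (checkChainF_cons (by decide +kernel) cLevB3 (checkChainF_cons (by decide +kernel) cLevB4 (checkChainF_cons (by decide +kernel) cLevB5 (checkChainF_cons (by decide +kernel) cLevB6 (checkChainF_cons (by decide +kernel) cLevB7 (rfl))))))))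

theorem chkB : checkChain1 chevE8 3 gensB chainB = true :=
  checkChain_of fOk hTbl mask_okB (gens_lt_of_chkGen cGenB) chkBF

set_option maxHeartbeats 0 in
theorem hallB : ∀ i < gensB.length, i ∈ chainB.map Prod.fst := by decide +kernel

set_option maxHeartbeats 0 in
theorem cOrbB : chkOrb fT chevE8 3 wordsB codesB = true := by decide +kernel

theorem orbB : OrbCert chevE8 3 wordsB := orbCert_of fOk hTbl cOrbB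

set_option maxHeartbeats 0 in
theorem polyB : chainPoly (strip chainB) = degPoly [2, 4, 6, 8, 8, 10, 12, 14] := by decide +kernel

set_option maxHeartbeats 0 in
theorem numB : chainSum 1 Cfsg.Agent.Lib.ChevOrder.Cert.E8.chain = chainSum 1 (strip chainB) * wordsB.length := by
  decide +kernel

set_option maxHeartbeats 0 in
theorem repB : RepCert chevE8 Cfsg.Agent.Lib.ChevOrder.Cert.E8.chain 3 [2, 4, 6, 8, 8, 10, 12, 14] :=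
  ⟨gensB, chainB, wordsB, genB, chkB, hallB, orbB, by decide +kernel, numB, polyB⟩

set_option maxHeartbeats 0 in
theorem cCountB : ((List.range chevE8.nroots).filter fun r => maskB.testBit r).length = 56 := by decide +kernel

theorem posLenB : (posOf chevE8 3).length = 56 := by
  rw [posOf_length fOk hTbl mask_okB, cCountB]

end Cfsg.Agent.Lib.ChevOdd.Data.E8
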