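import Cfsg.Agent.Lib.ChevOdd.Data.E8A
import Cfsg.Agent.Lib.ChevOdd.Data.E8B
import Cfsg.Agent.Lib.ChevBN.FixCart
import Cfsg.Agent.Lib.ChevBN.ParabTab
import Cfsg.Agent.Lib.Chevalley.AllEta

/-! Tables for the involutions of the Chevalley group of type E8 over a field of odd order. -/

set_option autoImplicit false
set_option maxRecDepth 100000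

namespace Cfsg.Agent.Lib.ChevOdd.Data.E8

open Cfsg.Lie Cfsg.Agent.Lib.ChevOdd.OddCert Cfsg.Agent.Lib.ChevOrder.Chain Cfsg.Agent.Lib.ChevOrder.Level
open Cfsg.Agent.Lib.ChevOdd.CentCard Cfsg.Agent.Lib.ChevOdd.Invol

/-- Witnesses for the cover. -/
def wit : List (ℕ × List ℕ) := [(0, []), (1, []), (1, [2, 0, 3, 1, 2, 3]), (3, []), (1, [2, 0]), (1, [2]), (3, [2, 0]), (3, [2]), (1, [2, 0, 3, 2]), (3, [3, 1]), (1, [2, 0, 3, 1, 2]), (3, [3]), (1, [2, 0, 3]), (1, [2, 3]), (1, [2, 0, 3, 1]), (1, [2, 3, 1]), (1, [2, 0, 3, 2, 4, 3]), (3, [3, 1, 4, 3]), (3, [3, 1, 4, 3, 2, 0, 5, 4, 3, 1, 2, 3, 4, 5]), (1, [2, 3, 1, 4, 3, 2]), (3, [3, 1, 4, 3, 2, 0]), (3, [3, 1, 4, 3, 2]), (1, [2, 0, 3, 1, 4,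 3]), (1, [2, 3, 1, 4, 3]), (1, [2, 0, 3, 2, 4]), (3, [3, 1, 4]), (1, [2, 0, 3, 1, 2, 4]), (3, [3, 4]), (1, [2, 0, 3, 4]), (1, [2, 3, 4]), (1, [2, 0, 3, 1, 4]), (1, [2, 3, 1, 4]), (1, [2, 0, 3, 2, 4, 3, 5, 4]), (3, [3, 1, 4, 3, 5, 4]), (3, [3, 1, 4, 3, 2, 0, 5, 4, 3, 1, 2, 3]), (1, [2, 3, 1, 4, 3, 2, 5, 4]), (3, [3, 1, 4, 3, 2, 0, 5, 4]), (3, [3, 1, 4, 3, 2, 5, 4]), (1, [2, 0, 3, 1, 4, 3, 5, 4]), (1, [2, 3, 1, 4, 3, 5, 4]), (3, [3, 1, 4, 3, 2, 0, 5, 4, 3, 2]), (1, [2, 3, 1, 4, 3, 2, 5, 4, 3, 1]), (3, [3, 1, 4, 3, 2, 0, 5, 4, 3, 1, 2]), (1, [2, 3, 1, 4, 3, 2, 5, 4, 3]), (3, [3, 1, 4, 3, 2, 0, 5, 4, 3]), (3, [3, 1, 4, 3, 2, 5, 4, 3]), (3, [3, 1, 4, 3, 2, 0, 5, 4, 3, 1]), (3, [3, 1, 4,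 3, 2, 5, 4, 3, 1]), (1, [2, 0, 3, 2, 4, 3, 5]), (3, [3, 1, 4, 3, 5]), (3, [3, 1, 4, 3, 2, 0, 5, 4, 3, 1, 2, 3, 4]), (1, [2, 3, 1, 4, 3, 2, 5]), (3, [3, 1, 4, 3, 2, 0, 5]), (3, [3, 1, 4, 3, 2, 5]), (1, [2, 0, 3, 1, 4, 3, 5]), (1, [2, 3, 1, 4, 3, 5]), (1, [2, 0, 3, 2, 4, 5]), (3, [3, 1, 4, 5]), (1, [2, 0, 3, 1, 2, 4, 5]), (3, [3, 4, 5]), (1, [2, 0, 3, 4, 5]), (1, [2, 3, 4, 5]), (1, [2, 0, 3, 1, 4, 5]), (1, [2, 3, 1, 4, 5]), (1, [2, 0, 3, 2, 4, 3, 5, 4, 6, 5]), (3, [3, 1, 4, 3, 5, 4, 6, 5]), (3, [3, 1, 4, 3, 2, 0, 5, 4, 3, 1, 2, 3, 6, 5]), (1, [2, 3, 1, 4, 3, 2, 5, 4, 6, 5]), (3, [3, 1, 4, 3, 2, 0, 5, 4, 6, 5]), (3, [3, 1, 4, 3, 2, 5, 4, 6, 5]), (1, [2, 0, 3, 1, 4, 3, 5, 4, 6, 5]), (1,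 [2, 3, 1, 4, 3, 5, 4, 6, 5]), (3, [3, 1, 4, 3, 2, 0, 5, 4, 3, 2, 6, 5]), (1, [2, 3, 1, 4, 3, 2, 5, 4, 3, 1, 6, 5]), (3, [3, 1, 4, 3, 2, 0, 5, 4, 3, 1, 2, 6, 5]), (1, [2, 3, 1, 4, 3, 2, 5, 4, 3, 6, 5]), (3, [3, 1, 4, 3, 2, 0, 5, 4, 3, 6, 5]), (3, [3, 1, 4, 3, 2, 5, 4, 3, 6, 5]), (3, [3, 1, 4, 3, 2, 0, 5, 4, 3, 1, 6, 5]), (3, [3, 1, 4, 3, 2, 5, 4, 3, 1, 6, 5]), (3, [3, 1, 4, 3, 2, 0, 5, 4, 3, 2, 6, 5, 4, 3]), (1, [2, 3, 1, 4, 3, 2, 5, 4, 3, 1, 6, 5, 4, 3]), (1, [2, 3, 1, 4, 3, 2, 5, 4, 3, 1, 6, 5, 4, 3, 2, 0, 7, 6, 5, 4, 3, 1, 2, 3, 4, 5, 6, 7]), (3, [3, 1, 4, 3, 2, 5, 4, 3, 1, 6, 5, 4, 3, 2]), (1, [2, 3, 1, 4, 3, 2, 5, 4, 3, 1, 6, 5, 4, 3, 2, 0]), (1, [2, 3, 1, 4, 3, 2, 5, 4, 3, 1, 6,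 5, 4, 3, 2]), (3, [3, 1, 4, 3, 2, 0, 5, 4, 3, 1, 6, 5, 4, 3]), (3, [3, 1, 4, 3, 2, 5, 4, 3, 1, 6, 5, 4, 3]), (3, [3, 1, 4, 3, 2, 0, 5, 4, 3, 2, 6, 5, 4]), (1, [2, 3, 1, 4, 3, 2, 5, 4, 3, 1, 6, 5, 4]), (3, [3, 1, 4, 3, 2, 0, 5, 4, 3, 1, 2, 6, 5, 4]), (1, [2, 3, 1, 4, 3, 2, 5, 4, 3, 6, 5, 4]), (3, [3, 1, 4, 3, 2, 0, 5, 4, 3, 6, 5, 4]), (3, [3, 1, 4, 3, 2, 5, 4, 3, 6, 5, 4]), (3, [3, 1, 4, 3, 2, 0, 5, 4, 3, 1, 6, 5, 4]), (3, [3, 1, 4, 3, 2, 5, 4, 3, 1, 6, 5, 4]), (1, [2, 0, 3, 2, 4, 3, 5, 4, 6]), (3, [3, 1, 4, 3, 5, 4, 6]), (3, [3, 1, 4, 3, 2, 0, 5, 4, 3, 1, 2, 3, 6]), (1, [2, 3, 1, 4, 3, 2, 5, 4, 6]), (3, [3, 1, 4, 3, 2, 0, 5, 4, 6]), (3, [3, 1, 4, 3, 2, 5, 4, 6]), (1, [2, 0, 3, 1, 4,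 3, 5, 4, 6]), (1, [2, 3, 1, 4, 3, 5, 4, 6]), (3, [3, 1, 4, 3, 2, 0, 5, 4, 3, 2, 6]), (1, [2, 3, 1, 4, 3, 2, 5, 4, 3, 1, 6]), (3, [3, 1, 4, 3, 2, 0, 5, 4, 3, 1, 2, 6]), (1, [2, 3, 1, 4, 3, 2, 5, 4, 3, 6]), (3, [3, 1, 4, 3, 2, 0, 5, 4, 3, 6]), (3, [3, 1, 4, 3, 2, 5, 4, 3, 6]), (3, [3, 1, 4, 3, 2, 0, 5, 4, 3, 1, 6]), (3, [3, 1, 4, 3, 2, 5, 4, 3, 1, 6]), (1, [2, 0, 3, 2, 4, 3, 5, 6]), (3, [3, 1, 4, 3, 5, 6]), (3, [3, 1, 4, 3, 2, 0, 5, 4, 3, 1, 2, 3, 4, 6]), (1, [2, 3, 1, 4, 3, 2, 5, 6]), (3, [3, 1, 4, 3, 2, 0, 5, 6]), (3, [3, 1, 4, 3, 2, 5, 6]), (1, [2, 0, 3, 1, 4, 3, 5, 6]), (1, [2, 3, 1, 4, 3, 5, 6]), (1, [2, 0, 3, 2, 4, 5, 6]), (3, [3, 1, 4, 5, 6]), (1, [2, 0, 3, 1, 2, 4, 5, 6]), (3,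 [3, 4, 5, 6]), (1, [2, 0, 3, 4, 5, 6]), (1, [2, 3, 4, 5, 6]), (1, [2, 0, 3, 1, 4, 5, 6]), (1, [2, 3, 1, 4, 5, 6]), (1, [2, 0, 3, 2, 4, 3, 5, 4, 6, 5, 7, 6]), (3, [3, 1, 4, 3, 5, 4, 6, 5, 7, 6]), (3, [3, 1, 4, 3, 2, 0, 5, 4, 3, 1, 2, 3, 6, 5, 7, 6]), (1, [2, 3, 1, 4, 3, 2, 5, 4, 6, 5, 7, 6]), (3, [3, 1, 4, 3, 2, 0, 5, 4, 6, 5, 7, 6]), (3, [3, 1, 4, 3, 2, 5, 4, 6, 5, 7, 6]), (1, [2, 0, 3, 1, 4, 3, 5, 4, 6, 5, 7, 6]), (1, [2, 3, 1, 4, 3, 5, 4, 6, 5, 7, 6]), (3, [3, 1, 4, 3, 2, 0, 5, 4, 3, 2, 6, 5, 7, 6]), (1, [2, 3, 1, 4, 3, 2, 5, 4, 3, 1, 6, 5, 7, 6]), (3, [3, 1, 4, 3, 2, 0, 5, 4, 3, 1, 2, 6, 5, 7, 6]), (1, [2, 3, 1, 4, 3, 2, 5, 4, 3, 6, 5, 7, 6]), (3, [3, 1, 4, 3, 2, 0, 5, 4, 3, 6, 5,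 7, 6]), (3, [3, 1, 4, 3, 2, 5, 4, 3, 6, 5, 7, 6]), (3, [3, 1, 4, 3, 2, 0, 5, 4, 3, 1, 6, 5, 7, 6]), (3, [3, 1, 4, 3, 2, 5, 4, 3, 1, 6, 5, 7, 6]), (3, [3, 1, 4, 3, 2, 0, 5, 4, 3, 2, 6, 5, 4, 3, 7, 6]), (1, [2, 3, 1, 4, 3, 2, 5, 4, 3, 1, 6, 5, 4, 3, 7, 6]), (1, [2, 3, 1, 4, 3, 2, 5, 4, 3, 1, 6, 5, 4, 3, 2, 0, 7, 6, 5, 4, 3, 1, 2, 3, 4, 5]), (3, [3, 1, 4, 3, 2, 5, 4, 3, 1, 6, 5, 4, 3, 2, 7, 6]), (1, [2, 3, 1, 4, 3, 2, 5, 4, 3, 1, 6, 5, 4, 3, 2, 0, 7, 6]), (1, [2, 3, 1, 4, 3, 2, 5, 4, 3, 1, 6, 5, 4, 3, 2, 7, 6]), (3, [3, 1, 4, 3, 2, 0, 5, 4, 3, 1, 6, 5, 4, 3, 7, 6]), (3, [3, 1, 4, 3, 2, 5, 4, 3, 1, 6, 5, 4, 3, 7, 6]), (3, [3, 1, 4, 3, 2, 0, 5, 4, 3, 2, 6, 5, 4, 7, 6]), (1, [2, 3, 1, 4,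 3, 2, 5, 4, 3, 1, 6, 5, 4, 7, 6]), (3, [3, 1, 4, 3, 2, 0, 5, 4, 3, 1, 2, 6, 5, 4, 7, 6]), (1, [2, 3, 1, 4, 3, 2, 5, 4, 3, 6, 5, 4, 7, 6]), (3, [3, 1, 4, 3, 2, 0, 5, 4, 3, 6, 5, 4, 7, 6]), (3, [3, 1, 4, 3, 2, 5, 4, 3, 6, 5, 4, 7, 6]), (3, [3, 1, 4, 3, 2, 0, 5, 4, 3, 1, 6, 5, 4, 7, 6]), (3, [3, 1, 4, 3, 2, 5, 4, 3, 1, 6, 5, 4, 7, 6]), (3, [3, 1, 4, 3, 2, 0, 5, 4, 3, 2, 6, 5, 4, 3, 7, 6, 5, 4]), (1, [2, 3, 1, 4, 3, 2, 5, 4, 3, 1, 6, 5, 4, 3, 7, 6, 5, 4]), (1, [2, 3, 1, 4, 3, 2, 5, 4, 3, 1, 6, 5, 4, 3, 2, 0, 7, 6, 5, 4, 3, 1, 2, 3]), (3, [3, 1, 4, 3, 2, 5, 4, 3, 1, 6, 5, 4, 3, 2, 7, 6, 5, 4]), (1, [2, 3, 1, 4, 3, 2, 5, 4, 3, 1, 6, 5, 4, 3, 2, 0, 7, 6, 5, 4]), (1, [2, 3, 1, 4, 3, 2, 5, 4,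 3, 1, 6, 5, 4, 3, 2, 7, 6, 5, 4]), (3, [3, 1, 4, 3, 2, 0, 5, 4, 3, 1, 6, 5, 4, 3, 7, 6, 5, 4]), (3, [3, 1, 4, 3, 2, 5, 4, 3, 1, 6, 5, 4, 3, 7, 6, 5, 4]), (1, [2, 3, 1, 4, 3, 2, 5, 4, 3, 1, 6, 5, 4, 3, 2, 0, 7, 6, 5, 4, 3, 2]), (3, [3, 1, 4, 3, 2, 5, 4, 3, 1, 6, 5, 4, 3, 2, 7, 6, 5, 4, 3, 1]), (1, [2, 3, 1, 4, 3, 2, 5, 4, 3, 1, 6, 5, 4, 3, 2, 0, 7, 6, 5, 4, 3, 1, 2]), (3, [3, 1, 4, 3, 2, 5, 4, 3, 1, 6, 5, 4, 3, 2, 7, 6, 5, 4, 3]), (1, [2, 3, 1, 4, 3, 2, 5, 4, 3, 1, 6, 5, 4, 3, 2, 0, 7, 6, 5, 4, 3]), (1, [2, 3, 1, 4, 3, 2, 5, 4, 3, 1, 6, 5, 4, 3, 2, 7, 6, 5, 4, 3]), (1, [2, 3, 1, 4, 3, 2, 5, 4, 3, 1, 6, 5, 4, 3, 2, 0, 7, 6, 5, 4, 3, 1]), (1, [2, 3, 1, 4, 3, 2, 5, 4, 3, 1, 6, 5, 4, 3,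 2, 7, 6, 5, 4, 3, 1]), (3, [3, 1, 4, 3, 2, 0, 5, 4, 3, 2, 6, 5, 4, 3, 7, 6, 5]), (1, [2, 3, 1, 4, 3, 2, 5, 4, 3, 1, 6, 5, 4, 3, 7, 6, 5]), (1, [2, 3, 1, 4, 3, 2, 5, 4, 3, 1, 6, 5, 4, 3, 2, 0, 7, 6, 5, 4, 3, 1, 2, 3, 4]), (3, [3, 1, 4, 3, 2, 5, 4, 3, 1, 6, 5, 4, 3, 2, 7, 6, 5]), (1, [2, 3, 1, 4, 3, 2, 5, 4, 3, 1, 6, 5, 4, 3, 2, 0, 7, 6, 5]), (1, [2, 3, 1, 4, 3, 2, 5, 4, 3, 1, 6, 5, 4, 3, 2, 7, 6, 5]), (3, [3, 1, 4, 3, 2, 0, 5, 4, 3, 1, 6, 5, 4, 3, 7, 6, 5]), (3, [3, 1, 4, 3, 2, 5, 4, 3, 1, 6, 5, 4, 3, 7, 6, 5]), (3, [3, 1, 4, 3, 2, 0, 5, 4, 3, 2, 6, 5, 4, 7, 6, 5]), (1, [2, 3, 1, 4, 3, 2, 5, 4, 3, 1, 6, 5, 4, 7, 6, 5]), (3, [3, 1, 4, 3, 2, 0, 5, 4, 3, 1, 2, 6, 5, 4, 7, 6, 5]), (1, [2,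 3, 1, 4, 3, 2, 5, 4, 3, 6, 5, 4, 7, 6, 5]), (3, [3, 1, 4, 3, 2, 0, 5, 4, 3, 6, 5, 4, 7, 6, 5]), (3, [3, 1, 4, 3, 2, 5, 4, 3, 6, 5, 4, 7, 6, 5]), (3, [3, 1, 4, 3, 2, 0, 5, 4, 3, 1, 6, 5, 4, 7, 6, 5]), (3, [3, 1, 4, 3, 2, 5, 4, 3, 1, 6, 5, 4, 7, 6, 5]), (1, [2, 0, 3, 2, 4, 3, 5, 4, 6, 5, 7]), (3, [3, 1, 4, 3, 5, 4, 6, 5, 7]), (3, [3, 1, 4, 3, 2, 0, 5, 4, 3, 1, 2, 3, 6, 5, 7]), (1, [2, 3, 1, 4, 3, 2, 5, 4, 6, 5, 7]), (3, [3, 1, 4, 3, 2, 0, 5, 4, 6, 5, 7]), (3, [3, 1, 4, 3, 2, 5, 4, 6, 5, 7]), (1, [2, 0, 3, 1, 4, 3, 5, 4, 6, 5, 7]), (1, [2, 3, 1, 4, 3, 5, 4, 6, 5, 7]), (3, [3, 1, 4, 3, 2, 0, 5, 4, 3, 2, 6, 5, 7]), (1, [2, 3, 1, 4, 3, 2, 5, 4, 3, 1, 6, 5, 7]), (3, [3, 1, 4, 3, 2, 0, 5, 4,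 3, 1, 2, 6, 5, 7]), (1, [2, 3, 1, 4, 3, 2, 5, 4, 3, 6, 5, 7]), (3, [3, 1, 4, 3, 2, 0, 5, 4, 3, 6, 5, 7]), (3, [3, 1, 4, 3, 2, 5, 4, 3, 6, 5, 7]), (3, [3, 1, 4, 3, 2, 0, 5, 4, 3, 1, 6, 5, 7]), (3, [3, 1, 4, 3, 2, 5, 4, 3, 1, 6, 5, 7]), (3, [3, 1, 4, 3, 2, 0, 5, 4, 3, 2, 6, 5, 4, 3, 7]), (1, [2, 3, 1, 4, 3, 2, 5, 4, 3, 1, 6, 5, 4, 3, 7]), (1, [2, 3, 1, 4, 3, 2, 5, 4, 3, 1, 6, 5, 4, 3, 2, 0, 7, 6, 5, 4, 3, 1, 2, 3, 4, 5, 6]), (3, [3, 1, 4, 3, 2, 5, 4, 3, 1, 6, 5, 4, 3, 2, 7]), (1, [2, 3, 1, 4, 3, 2, 5, 4, 3, 1, 6, 5, 4, 3, 2, 0, 7]), (1, [2, 3, 1, 4, 3, 2, 5, 4, 3, 1, 6, 5, 4, 3, 2, 7]), (3, [3, 1, 4, 3, 2, 0, 5, 4, 3, 1, 6, 5, 4, 3, 7]), (3, [3, 1, 4, 3, 2, 5, 4, 3, 1, 6, 5, 4, 3, 7]),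 (3, [3, 1, 4, 3, 2, 0, 5, 4, 3, 2, 6, 5, 4, 7]), (1, [2, 3, 1, 4, 3, 2, 5, 4, 3, 1, 6, 5, 4, 7]), (3, [3, 1, 4, 3, 2, 0, 5, 4, 3, 1, 2, 6, 5, 4, 7]), (1, [2, 3, 1, 4, 3, 2, 5, 4, 3, 6, 5, 4, 7]), (3, [3, 1, 4, 3, 2, 0, 5, 4, 3, 6, 5, 4, 7]), (3, [3, 1, 4, 3, 2, 5, 4, 3, 6, 5, 4, 7]), (3, [3, 1, 4, 3, 2, 0, 5, 4, 3, 1, 6, 5, 4, 7]), (3, [3, 1, 4, 3, 2, 5, 4, 3, 1, 6, 5, 4, 7]), (1, [2, 0, 3, 2, 4, 3, 5, 4, 6, 7]), (3, [3, 1, 4, 3, 5, 4, 6, 7]), (3, [3, 1, 4, 3, 2, 0, 5, 4, 3, 1, 2, 3, 6, 7]), (1, [2, 3, 1, 4, 3, 2, 5, 4, 6, 7]), (3, [3, 1, 4, 3, 2, 0, 5, 4, 6, 7]), (3, [3, 1, 4, 3, 2, 5, 4, 6, 7]), (1, [2, 0, 3, 1, 4, 3, 5, 4, 6, 7]), (1, [2, 3, 1, 4, 3, 5, 4, 6, 7]), (3, [3, 1, 4, 3,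 2, 0, 5, 4, 3, 2, 6, 7]), (1, [2, 3, 1, 4, 3, 2, 5, 4, 3, 1, 6, 7]), (3, [3, 1, 4, 3, 2, 0, 5, 4, 3, 1, 2, 6, 7]), (1, [2, 3, 1, 4, 3, 2, 5, 4, 3, 6, 7]), (3, [3, 1, 4, 3, 2, 0, 5, 4, 3, 6, 7]), (3, [3, 1, 4, 3, 2, 5, 4, 3, 6, 7]), (3, [3, 1, 4, 3, 2, 0, 5, 4, 3, 1, 6, 7]), (3, [3, 1, 4, 3, 2, 5, 4, 3, 1, 6, 7]), (1, [2, 0, 3, 2, 4, 3, 5, 6, 7]), (3, [3, 1, 4, 3, 5, 6, 7]), (3, [3, 1, 4, 3, 2, 0, 5, 4, 3, 1, 2, 3, 4, 6, 7]), (1, [2, 3, 1, 4, 3, 2, 5, 6, 7]), (3, [3, 1, 4, 3, 2, 0, 5, 6, 7]), (3, [3, 1, 4, 3, 2, 5, 6, 7]), (1, [2, 0, 3, 1, 4, 3, 5, 6, 7]), (1, [2, 3, 1, 4, 3, 5, 6, 7]), (1, [2, 0, 3, 2, 4, 5, 6, 7]), (3, [3, 1, 4, 5, 6, 7]), (1, [2, 0, 3, 1, 2, 4, 5, 6, 7]), (3, [3,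 4, 5, 6, 7]), (1, [2, 0, 3, 4, 5, 6, 7]), (1, [2, 3, 4, 5, 6, 7]), (1, [2, 0, 3, 1, 4, 5, 6, 7]), (1, [2, 3, 1, 4, 5, 6, 7])]

set_option maxHeartbeats 0 in
theorem cLin : chkLinF fT chevE8 = true := by decide +kernel

theorem commLin : CommLin chevE8 :=
  commLin_of Cfsg.Agent.Lib.ChevBN.ParabTab.levE8.hpos (chkLin_of fOk hTbl cLin)

set_option maxHeartbeats 0 in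
theorem oddTab : OddTab chevE8 := ⟨by decide +kernel, by decide +kernel⟩

/-- The representatives with their degrees. -/
def reps : List (ℕ × List ℕ) := [(1, [2, 2, 6, 8, 10, 12, 14, 18]), (3, [2, 4, 6, 8, 8, 10, 12, 14])]

set_option maxHeartbeats 0 in
theorem cCover : chkCoverF fT chevE8 (reps.map Prod.fst) wit = true := by decide +kernel

theorem cover : ∀ e < 2 ^ chevE8.rank, e = 0 ∨ ∃ r ∈ reps, ∃ l : List ℕ, (∀ i ∈ l, i < chevE8.rank) ∧ actW chevE8 r.1 l = e :=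
  cover_of (wit := wit) (chkCover_of fOk hTbl cCover)

/-- The signs. -/
noncomputable abbrev eta : ℕ → ℕ → ℤ := Cfsg.Agent.Lib.Chevalley.SysOf.etaOf Cfsg.Agent.Lib.Chevalley.Tbl.E8.wT

set_option maxHeartbeats 0 in
theorem data : OddData chevE8 eta Cfsg.Agent.Lib.ChevOrder.Cert.E8.chain [2, 8, 12, 14, 18, 20, 24, 30] reps where
  hT := Cfsg.Agent.Lib.ChevBN.FastData.tbl_chevE8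
  hC := commLin
  hO := oddTab
  hCI := Cfsg.Agent.Lib.ChevBN.FixCart.cartanInv_E8
  hη := fun i hi => Cfsg.Agent.Lib.Chevalley.NForm.eta_simple_of_check _
    Cfsg.Agent.Lib.Chevalley.Tbl.E8.nform_check hi
  hfull := Cfsg.Agent.Lib.ChevOrder.Cert.E8.check
  hfall := Cfsg.Agent.Lib.ChevOrder.Cert.E8.all_mem
  hfpoly := Cfsg.Agent.Lib.ChevOrder.Cert.E8.poly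
  hfne := by decide +kernel
  hreps := by
    intro r hr
    simp only [reps, List.mem_cons, List.not_mem_nil, or_false] at hr
    rcases hr with rfl | rfl
    · exact ⟨repA, by decide +kernel⟩
    · exact ⟨repB, by decide +kernel⟩
  cover := cover

end Cfsg.Agent.Lib.ChevOdd.Data.E8
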