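import Cfsg.Agent.Lib.ChevOdd.Data.E8Base

/-! Tables for a class of involutions of the Chevalley group of type E8 over a field of odd order. -/

set_option autoImplicit false
set_option maxRecDepth 100000

namespace Cfsg.Agent.Lib.ChevOdd.Data.E8

open Cfsg.Lie Cfsg.Agent.Lib.ChevOdd.OddCert Cfsg.Agent.Lib.ChevOrder.Chain Cfsg.Agent.Lib.ChevOrder.Level
open Cfsg.Agent.Lib.ChevOdd.CentCard Cfsg.Agent.Lib.ChevOdd.Invol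

/-- The generators for the representative 1. -/
def gensA : List Gen := [([], 7), ([], 6), ([], 5), ([], 4), ([], 3), ([], 1), ([], 0), ([2, 0, 3, 1, 2, 3], 4)]

/-- The mask of the positive roots centralised by the representative. -/
def maskA : ℕ := 0xfd0007ffffffff0000040007e07fff000000000000000000000000000000

/-- A level. -/
def levA0 : List (List ℤ × ℕ) := [
  ([Int.ofNat 2, Int.ofNat 0, Int.negSucc 0, Int.ofNat 0, Int.ofNat 0, Int.ofNat 0, Int.ofNat 0, Int.ofNat 0], 0),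
  ([Int.negSucc 1, Int.ofNat 0, Int.ofNat 1, Int.ofNat 0, Int.ofNat 0, Int.ofNat 0, Int.ofNat 0, Int.ofNat 0], 1)]

/-- A level. -/
def levA1 : List (List ℤ × ℕ) := [
  ([Int.ofNat 0, Int.ofNat 2, Int.negSucc 0, Int.ofNat 0, Int.ofNat 0, Int.ofNat 0, Int.ofNat 0, Int.ofNat 0], 0),
  ([Int.ofNat 0, Int.negSucc 1, Int.negSucc 0, Int.ofNat 2, Int.ofNat 0, Int.ofNat 0, Int.ofNat 0, Int.ofNat 0], 1),
  ([Int.ofNat 0, Int.ofNat 0, Int.ofNat 1, Int.negSucc 1, Int.ofNat 2, Int.ofNat 0, Int.ofNat 0, Int.ofNat 0], 2),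
  ([Int.ofNat 0, Int.ofNat 0, Int.ofNat 1, Int.ofNat 0, Int.negSucc 1, Int.ofNat 2, Int.ofNat 0, Int.ofNat 0], 3),
  ([Int.ofNat 0, Int.ofNat 0, Int.ofNat 1, Int.ofNat 0, Int.ofNat 0, Int.negSucc 1, Int.ofNat 2, Int.ofNat 0], 4),
  ([Int.ofNat 0, Int.ofNat 0, Int.ofNat 1, Int.ofNat 0, Int.ofNat 0, Int.ofNat 0, Int.negSucc 1, Int.ofNat 2], 5),
  ([Int.ofNat 0, Int.ofNat 0, Int.negSucc 0, Int.ofNat 0, Int.ofNat 0, Int.ofNat 0, Int.ofNat 2, Int.ofNat 0], 5),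
  ([Int.ofNat 0, Int.ofNat 0, Int.ofNat 1, Int.ofNat 0, Int.ofNat 0, Int.ofNat 0, Int.ofNat 0, Int.negSucc 1], 6),
  ([Int.ofNat 0, Int.ofNat 0, Int.negSucc 0, Int.ofNat 0, Int.ofNat 0, Int.ofNat 2, Int.negSucc 1, Int.ofNat 2], 6),
  ([Int.ofNat 0, Int.ofNat 0, Int.negSucc 0, Int.ofNat 0, Int.ofNat 0, Int.ofNat 2, Int.ofNat 0, Int.negSucc 1], 7),
  ([Int.ofNat 0, Int.ofNat 0, Int.negSucc 0, Int.ofNat 0, Int.ofNat 2, Int.negSucc 1, Int.ofNat 0, Int.ofNat 2], 7),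
  ([Int.ofNat 0, Int.ofNat 0, Int.negSucc 0, Int.ofNat 0, Int.ofNat 2, Int.negSucc 1, Int.ofNat 2, Int.negSucc 1], 8),
  ([Int.ofNat 0, Int.ofNat 0, Int.negSucc 0, Int.ofNat 2, Int.negSucc 1, Int.ofNat 0, Int.ofNat 0, Int.ofNat 2], 8),
  ([Int.ofNat 0, Int.ofNat 0, Int.negSucc 0, Int.ofNat 0, Int.ofNat 2, Int.ofNat 0, Int.negSucc 1, Int.ofNat 0], 9),
  ([Int.ofNat 0, Int.ofNat 0, Int.negSucc 0, Int.ofNat 2, Int.negSucc 1, Int.ofNat 0, Int.ofNat 2, Int.negSucc 1], 9),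
  ([Int.ofNat 0, Int.ofNat 2, Int.ofNat 1, Int.negSucc 1, Int.ofNat 0, Int.ofNat 0, Int.ofNat 0, Int.ofNat 2], 9),
  ([Int.ofNat 0, Int.ofNat 0, Int.negSucc 0, Int.ofNat 2, Int.negSucc 1, Int.ofNat 2, Int.negSucc 1, Int.ofNat 0], 10),
  ([Int.ofNat 0, Int.ofNat 2, Int.ofNat 1, Int.negSucc 1, Int.ofNat 0, Int.ofNat 0, Int.ofNat 2, Int.negSucc 1], 10),
  ([Int.ofNat 0, Int.negSucc 1, Int.ofNat 1, Int.ofNat 0, Int.ofNat 0, Int.ofNat 0, Int.ofNat 0, Int.ofNat 2], 10),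
  ([Int.ofNat 0, Int.ofNat 0, Int.negSucc 0, Int.ofNat 2, Int.ofNat 0, Int.negSucc 1, Int.ofNat 0, Int.ofNat 0], 11),
  ([Int.ofNat 0, Int.ofNat 2, Int.ofNat 1, Int.negSucc 1, Int.ofNat 0, Int.ofNat 2, Int.negSucc 1, Int.ofNat 0], 11),
  ([Int.ofNat 0, Int.negSucc 1, Int.ofNat 1, Int.ofNat 0, Int.ofNat 0, Int.ofNat 0, Int.ofNat 2, Int.negSucc 1], 11),
  ([Int.ofNat 0, Int.ofNat 2, Int.ofNat 1, Int.negSucc 1, Int.ofNat 2, Int.negSucc 1, Int.ofNat 0, Int.ofNat 0], 12),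
  ([Int.ofNat 0, Int.ofNat 0, Int.negSucc 2, Int.ofNat 2, Int.ofNat 0, Int.ofNat 0, Int.ofNat 0, Int.ofNat 0], 12),
  ([Int.ofNat 0, Int.negSucc 1, Int.ofNat 1, Int.ofNat 0, Int.ofNat 0, Int.ofNat 2, Int.negSucc 1, Int.ofNat 0], 12),
  ([Int.ofNat 0, Int.ofNat 2, Int.ofNat 1, Int.ofNat 0, Int.negSucc 1, Int.ofNat 0, Int.ofNat 0, Int.ofNat 0], 13),
  ([Int.ofNat 0, Int.ofNat 2, Int.negSucc 0, Int.negSucc 1, Int.ofNat 2, Int.ofNat 0, Int.ofNat 0, Int.ofNat 0], 13),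
  ([Int.ofNat 0, Int.negSucc 1, Int.ofNat 1, Int.ofNat 0, Int.ofNat 2, Int.negSucc 1, Int.ofNat 0, Int.ofNat 0], 13),
  ([Int.ofNat 0, Int.ofNat 2, Int.negSucc 0, Int.ofNat 0, Int.negSucc 1, Int.ofNat 2, Int.ofNat 0, Int.ofNat 0], 14),
  ([Int.ofNat 0, Int.negSucc 1, Int.ofNat 1, Int.ofNat 2, Int.negSucc 1, Int.ofNat 0, Int.ofNat 0, Int.ofNat 0], 14),
  ([Int.ofNat 0, Int.negSucc 1, Int.negSucc 0, Int.ofNat 0, Int.ofNat 2, Int.ofNat 0, Int.ofNat 0, Int.ofNat 0], 14),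
  ([Int.ofNat 0, Int.ofNat 2, Int.negSucc 0, Int.ofNat 0, Int.ofNat 0, Int.negSucc 1, Int.ofNat 2, Int.ofNat 0], 15),
  ([Int.ofNat 0, Int.negSucc 1, Int.negSucc 0, Int.ofNat 2, Int.negSucc 1, Int.ofNat 2, Int.ofNat 0, Int.ofNat 0], 15),
  ([Int.ofNat 0, Int.ofNat 0, Int.ofNat 3, Int.negSucc 1, Int.ofNat 0, Int.ofNat 0, Int.ofNat 0, Int.ofNat 0], 15),
  ([Int.ofNat 0, Int.ofNat 2, Int.negSucc 0, Int.ofNat 0, Int.ofNat 0, Int.ofNat 0, Int.negSucc 1, Int.ofNat 2], 16),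
  ([Int.ofNat 0, Int.negSucc 1, Int.negSucc 0, Int.ofNat 2, Int.ofNat 0, Int.negSucc 1, Int.ofNat 2, Int.ofNat 0], 16),
  ([Int.ofNat 0, Int.ofNat 0, Int.ofNat 1, Int.negSucc 1, Int.ofNat 0, Int.ofNat 2, Int.ofNat 0, Int.ofNat 0], 16),
  ([Int.ofNat 0, Int.ofNat 2, Int.negSucc 0, Int.ofNat 0, Int.ofNat 0, Int.ofNat 0, Int.ofNat 0, Int.negSucc 1], 17),
  ([Int.ofNat 0, Int.negSucc 1, Int.negSucc 0, Int.ofNat 2, Int.ofNat 0, Int.ofNat 0, Int.negSucc 1, Int.ofNat 2], 17),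
  ([Int.ofNat 0, Int.ofNat 0, Int.ofNat 1, Int.negSucc 1, Int.ofNat 2, Int.negSucc 1, Int.ofNat 2, Int.ofNat 0], 17),
  ([Int.ofNat 0, Int.negSucc 1, Int.negSucc 0, Int.ofNat 2, Int.ofNat 0, Int.ofNat 0, Int.ofNat 0, Int.negSucc 1], 18),
  ([Int.ofNat 0, Int.ofNat 0, Int.ofNat 1, Int.negSucc 1, Int.ofNat 2, Int.ofNat 0, Int.negSucc 1, Int.ofNat 2], 18),
  ([Int.ofNat 0, Int.ofNat 0, Int.ofNat 1, Int.ofNat 0, Int.negSucc 1, Int.ofNat 0, Int.ofNat 2, Int.ofNat 0], 18),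
  ([Int.ofNat 0, Int.ofNat 0, Int.ofNat 1, Int.negSucc 1, Int.ofNat 2, Int.ofNat 0, Int.ofNat 0, Int.negSucc 1], 19),
  ([Int.ofNat 0, Int.ofNat 0, Int.ofNat 1, Int.ofNat 0, Int.negSucc 1, Int.ofNat 2, Int.negSucc 1, Int.ofNat 2], 19),
  ([Int.ofNat 0, Int.ofNat 0, Int.ofNat 1, Int.ofNat 0, Int.negSucc 1, Int.ofNat 2, Int.ofNat 0, Int.negSucc 1], 20),
  ([Int.ofNat 0, Int.ofNat 0, Int.ofNat 1, Int.ofNat 0, Int.ofNat 0, Int.negSucc 1, Int.ofNat 0, Int.ofNat 2], 20),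
  ([Int.ofNat 0, Int.ofNat 0, Int.ofNat 1, Int.ofNat 0, Int.ofNat 0, Int.negSucc 1, Int.ofNat 2, Int.negSucc 1], 21),
  ([Int.ofNat 0, Int.ofNat 0, Int.negSucc 0, Int.ofNat 0, Int.ofNat 0, Int.ofNat 0, Int.ofNat 0, Int.ofNat 2], 21),
  ([Int.ofNat 0, Int.ofNat 0, Int.ofNat 1, Int.ofNat 0, Int.ofNat 0, Int.ofNat 0, Int.negSucc 1, Int.ofNat 0], 22),
  ([Int.ofNat 0, Int.ofNat 0, Int.negSucc 0, Int.ofNat 0, Int.ofNat 0, Int.ofNat 0, Int.ofNat 2, Int.negSucc 1], 22),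
  ([Int.ofNat 0, Int.ofNat 0, Int.negSucc 0, Int.ofNat 0, Int.ofNat 0, Int.ofNat 2, Int.negSucc 1, Int.ofNat 0], 23),
  ([Int.ofNat 0, Int.ofNat 0, Int.negSucc 0, Int.ofNat 0, Int.ofNat 2, Int.negSucc 1, Int.ofNat 0, Int.ofNat 0], 24),
  ([Int.ofNat 0, Int.ofNat 0, Int.negSucc 0, Int.ofNat 2, Int.negSucc 1, Int.ofNat 0, Int.ofNat 0, Int.ofNat 0], 25),
  ([Int.ofNat 0, Int.ofNat 2, Int.ofNat 1, Int.negSucc 1, Int.ofNat 0, Int.ofNat 0, Int.ofNat 0, Int.ofNat 0], 26),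
  ([Int.ofNat 0, Int.negSucc 1, Int.ofNat 1, Int.ofNat 0, Int.ofNat 0, Int.ofNat 0, Int.ofNat 0, Int.ofNat 0], 27)]

/-- A level. -/
def levA2 : List (List ℤ × ℕ) := [
  ([Int.ofNat 0, Int.ofNat 0, Int.ofNat 0, Int.ofNat 0, Int.ofNat 0, Int.ofNat 0, Int.ofNat 0, Int.ofNat 1], 0),
  ([Int.ofNat 0, Int.ofNat 0, Int.ofNat 0, Int.ofNat 0, Int.ofNat 0, Int.ofNat 0, Int.ofNat 1, Int.negSucc 0], 1),
  ([Int.ofNat 0, Int.ofNat 0, Int.ofNat 0, Int.ofNat 0, Int.ofNat 0, Int.ofNat 1, Int.negSucc 0, Int.ofNat 0], 2),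
  ([Int.ofNat 0, Int.ofNat 0, Int.ofNat 0, Int.ofNat 0, Int.ofNat 1, Int.negSucc 0, Int.ofNat 0, Int.ofNat 0], 3),
  ([Int.ofNat 0, Int.ofNat 0, Int.ofNat 0, Int.ofNat 1, Int.negSucc 0, Int.ofNat 0, Int.ofNat 0, Int.ofNat 0], 4),
  ([Int.ofNat 0, Int.ofNat 0, Int.negSucc 0, Int.ofNat 0, Int.ofNat 1, Int.ofNat 0, Int.ofNat 0, Int.ofNat 0], 4),
  ([Int.ofNat 0, Int.ofNat 1, Int.ofNat 1, Int.negSucc 0, Int.ofNat 0, Int.ofNat 0, Int.ofNat 0, Int.ofNat 0], 5),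
  ([Int.ofNat 0, Int.ofNat 0, Int.negSucc 0, Int.ofNat 1, Int.negSucc 0, Int.ofNat 1, Int.ofNat 0, Int.ofNat 0], 5),
  ([Int.ofNat 0, Int.ofNat 1, Int.ofNat 0, Int.negSucc 0, Int.ofNat 0, Int.ofNat 1, Int.ofNat 0, Int.ofNat 0], 6),
  ([Int.ofNat 0, Int.ofNat 0, Int.negSucc 0, Int.ofNat 1, Int.ofNat 0, Int.negSucc 0, Int.ofNat 1, Int.ofNat 0], 6),
  ([Int.ofNat 0, Int.ofNat 1, Int.ofNat 0, Int.negSucc 0, Int.ofNat 1, Int.negSucc 0, Int.ofNat 1, Int.ofNat 0], 7),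
  ([Int.ofNat 0, Int.ofNat 0, Int.negSucc 0, Int.ofNat 1, Int.ofNat 0, Int.ofNat 0, Int.negSucc 0, Int.ofNat 1], 7),
  ([Int.ofNat 0, Int.ofNat 1, Int.ofNat 0, Int.negSucc 0, Int.ofNat 1, Int.ofNat 0, Int.negSucc 0, Int.ofNat 1], 8),
  ([Int.ofNat 0, Int.ofNat 1, Int.ofNat 0, Int.ofNat 0, Int.negSucc 0, Int.ofNat 0, Int.ofNat 1, Int.ofNat 0], 8),
  ([Int.ofNat 0, Int.ofNat 0, Int.negSucc 0, Int.ofNat 1, Int.ofNat 0, Int.ofNat 0, Int.ofNat 0, Int.negSucc 0], 8),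
  ([Int.ofNat 0, Int.ofNat 1, Int.ofNat 0, Int.ofNat 0, Int.negSucc 0, Int.ofNat 1, Int.negSucc 0, Int.ofNat 1], 9),
  ([Int.ofNat 0, Int.ofNat 1, Int.ofNat 0, Int.negSucc 0, Int.ofNat 1, Int.ofNat 0, Int.ofNat 0, Int.negSucc 0], 9),
  ([Int.ofNat 0, Int.ofNat 1, Int.ofNat 0, Int.ofNat 0, Int.ofNat 0, Int.negSucc 0, Int.ofNat 0, Int.ofNat 1], 10),
  ([Int.ofNat 0, Int.ofNat 1, Int.ofNat 0, Int.ofNat 0, Int.negSucc 0, Int.ofNat 1, Int.ofNat 0, Int.negSucc 0], 10),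
  ([Int.ofNat 0, Int.ofNat 1, Int.negSucc 0, Int.ofNat 0, Int.ofNat 0, Int.ofNat 0, Int.ofNat 0, Int.ofNat 1], 11),
  ([Int.ofNat 0, Int.ofNat 1, Int.ofNat 0, Int.ofNat 0, Int.ofNat 0, Int.negSucc 0, Int.ofNat 1, Int.negSucc 0], 11),
  ([Int.ofNat 0, Int.ofNat 1, Int.negSucc 0, Int.ofNat 0, Int.ofNat 0, Int.ofNat 0, Int.ofNat 1, Int.negSucc 0], 12),
  ([Int.ofNat 0, Int.ofNat 1, Int.ofNat 0, Int.ofNat 0, Int.ofNat 0, Int.ofNat 0, Int.negSucc 0, Int.ofNat 0], 12),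
  ([Int.ofNat 0, Int.ofNat 1, Int.negSucc 0, Int.ofNat 0, Int.ofNat 0, Int.ofNat 1, Int.negSucc 0, Int.ofNat 0], 13),
  ([Int.ofNat 0, Int.ofNat 1, Int.negSucc 0, Int.ofNat 0, Int.ofNat 1, Int.negSucc 0, Int.ofNat 0, Int.ofNat 0], 14),
  ([Int.ofNat 0, Int.ofNat 1, Int.negSucc 0, Int.ofNat 1, Int.negSucc 0, Int.ofNat 0, Int.ofNat 0, Int.ofNat 0], 15),
  ([Int.ofNat 0, Int.ofNat 2, Int.ofNat 0, Int.negSucc 0, Int.ofNat 0, Int.ofNat 0, Int.ofNat 0, Int.ofNat 0], 16)]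

/-- A level. -/
def levA3 : List (List ℤ × ℕ) := [
  ([Int.ofNat 0, Int.ofNat 0, Int.negSucc 0, Int.ofNat 1, Int.ofNat 0, Int.ofNat 0, Int.ofNat 0, Int.ofNat 0], 0),
  ([Int.ofNat 0, Int.ofNat 1, Int.ofNat 0, Int.negSucc 0, Int.ofNat 1, Int.ofNat 0, Int.ofNat 0, Int.ofNat 0], 1),
  ([Int.ofNat 0, Int.ofNat 1, Int.ofNat 0, Int.ofNat 0, Int.negSucc 0, Int.ofNat 1, Int.ofNat 0, Int.ofNat 0], 2),
  ([Int.ofNat 0, Int.ofNat 1, Int.ofNat 0, Int.ofNat 0, Int.ofNat 0, Int.negSucc 0, Int.ofNat 1, Int.ofNat 0], 3),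
  ([Int.ofNat 0, Int.ofNat 1, Int.ofNat 0, Int.ofNat 0, Int.ofNat 0, Int.ofNat 0, Int.negSucc 0, Int.ofNat 1], 4),
  ([Int.ofNat 0, Int.ofNat 1, Int.negSucc 0, Int.ofNat 0, Int.ofNat 0, Int.ofNat 0, Int.ofNat 1, Int.ofNat 0], 4),
  ([Int.ofNat 0, Int.ofNat 1, Int.negSucc 0, Int.ofNat 0, Int.ofNat 0, Int.ofNat 1, Int.negSucc 0, Int.ofNat 1], 5),
  ([Int.ofNat 0, Int.ofNat 1, Int.negSucc 0, Int.ofNat 0, Int.ofNat 1, Int.negSucc 0, Int.ofNat 0, Int.ofNat 1], 6),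
  ([Int.ofNat 0, Int.ofNat 1, Int.negSucc 0, Int.ofNat 1, Int.negSucc 0, Int.ofNat 0, Int.ofNat 0, Int.ofNat 1], 7),
  ([Int.ofNat 0, Int.ofNat 2, Int.ofNat 0, Int.negSucc 0, Int.ofNat 0, Int.ofNat 0, Int.ofNat 0, Int.ofNat 1], 8)]

/-- A level. -/
def levA4 : List (List ℤ × ℕ) := [
  ([Int.ofNat 0, Int.ofNat 0, Int.ofNat 0, Int.ofNat 0, Int.ofNat 0, Int.ofNat 0, Int.ofNat 1, Int.ofNat 0], 0),
  ([Int.ofNat 0, Int.ofNat 0, Int.ofNat 0, Int.ofNat 0, Int.ofNat 0, Int.ofNat 1, Int.negSucc 0, Int.ofNat 1], 1),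
  ([Int.ofNat 0, Int.ofNat 0, Int.ofNat 0, Int.ofNat 0, Int.ofNat 1, Int.negSucc 0, Int.ofNat 0, Int.ofNat 1], 2),
  ([Int.ofNat 0, Int.ofNat 0, Int.ofNat 0, Int.ofNat 1, Int.negSucc 0, Int.ofNat 0, Int.ofNat 0, Int.ofNat 1], 3),
  ([Int.ofNat 0, Int.ofNat 0, Int.negSucc 0, Int.ofNat 0, Int.ofNat 1, Int.ofNat 0, Int.ofNat 0, Int.ofNat 1], 3),
  ([Int.ofNat 0, Int.ofNat 0, Int.negSucc 0, Int.ofNat 1, Int.negSucc 0, Int.ofNat 1, Int.ofNat 0, Int.ofNat 1], 4),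
  ([Int.ofNat 0, Int.ofNat 0, Int.negSucc 0, Int.ofNat 1, Int.ofNat 0, Int.negSucc 0, Int.ofNat 1, Int.ofNat 1], 5),
  ([Int.ofNat 0, Int.ofNat 0, Int.negSucc 0, Int.ofNat 1, Int.ofNat 0, Int.ofNat 0, Int.negSucc 0, Int.ofNat 2], 6)]

/-- A level. -/
def levA5 : List (List ℤ × ℕ) := [
  ([Int.ofNat 0, Int.ofNat 0, Int.negSucc 0, Int.ofNat 0, Int.ofNat 2, Int.ofNat 0, Int.ofNat 0, Int.ofNat 0], 0),
  ([Int.ofNat 0, Int.ofNat 0, Int.negSucc 0, Int.ofNat 2, Int.negSucc 1, Int.ofNat 2, Int.ofNat 0, Int.ofNat 0], 1),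
  ([Int.ofNat 0, Int.ofNat 0, Int.negSucc 0, Int.ofNat 2, Int.ofNat 0, Int.negSucc 1, Int.ofNat 2, Int.ofNat 0], 2),
  ([Int.ofNat 0, Int.ofNat 0, Int.negSucc 2, Int.ofNat 2, Int.ofNat 0, Int.ofNat 0, Int.ofNat 2, Int.ofNat 0], 3)]

/-- A level. -/
def levA6 : List (List ℤ × ℕ) := [
  ([Int.ofNat 0, Int.ofNat 0, Int.ofNat 0, Int.ofNat 0, Int.ofNat 0, Int.ofNat 1, Int.ofNat 0, Int.ofNat 0], 0),
  ([Int.ofNat 0, Int.ofNat 0, Int.ofNat 0, Int.ofNat 0, Int.ofNat 1, Int.negSucc 0, Int.ofNat 1, Int.ofNat 0], 1),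
  ([Int.ofNat 0, Int.ofNat 0, Int.negSucc 0, Int.ofNat 0, Int.ofNat 1, Int.ofNat 0, Int.ofNat 1, Int.ofNat 0], 2)]

/-- A level. -/
def levA7 : List (List ℤ × ℕ) := [
  ([Int.ofNat 0, Int.ofNat 0, Int.ofNat 1, Int.ofNat 0, Int.ofNat 0, Int.ofNat 0, Int.ofNat 0, Int.ofNat 0], 0),
  ([Int.ofNat 0, Int.ofNat 0, Int.negSucc 0, Int.ofNat 0, Int.ofNat 0, Int.ofNat 2, Int.ofNat 0, Int.ofNat 0], 1)]

/-- The chain. -/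
def chainA : List Lev1 := [(6, [Int.ofNat 2, Int.ofNat 0, Int.negSucc 0, Int.ofNat 0, Int.ofNat 0, Int.ofNat 0, Int.ofNat 0, Int.ofNat 0], levA0), (5, [Int.ofNat 0, Int.ofNat 2, Int.negSucc 0, Int.ofNat 0, Int.ofNat 0, Int.ofNat 0, Int.ofNat 0, Int.ofNat 0], levA1), (0, [Int.ofNat 0, Int.ofNat 0, Int.ofNat 0, Int.ofNat 0, Int.ofNat 0, Int.ofNat 0, Int.ofNat 0, Int.ofNat 1], levA2), (4, [Int.ofNat 0, Int.ofNat 0, Int.negSucc 0, Int.ofNat 1, Int.ofNat 0, Int.ofNat 0, Int.ofNat 0, Int.ofNat 0], levA3), (1, [Int.ofNat 0, Int.ofNat 0, Int.ofNat 0, Int.ofNat 0, Int.ofNat 0, Int.ofNat 0, Int.ofNat 1, Int.ofNat 0], levA4), (3, [Int.ofNat 0, Int.ofNat 0, Int.negSucc 0, Int.ofNat 0, Int.ofNat 2, Int.ofNat 0, Int.ofNat 0, Int.ofNat 0], levA5), (2, [Int.ofNat 0, Int.ofNat 0, Int.ofNat 0, Int.ofNat 0, Int.ofNat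 0, Int.ofNat 1, Int.ofNat 0, Int.ofNat 0], levA6), (7, [Int.ofNat 0, Int.ofNat 0, Int.ofNat 1, Int.ofNat 0, Int.ofNat 0, Int.ofNat 0, Int.ofNat 0, Int.ofNat 0], levA7)]

/-- The orbit. -/
def wordsA : List (List ℕ) := [[], [2, 0, 3, 1, 2, 3], [2, 0], [2], [2, 0, 3, 2], [2, 0, 3, 1, 2], [2, 0, 3], [2, 3], [2, 0, 3, 1], [2, 3, 1], [2, 0, 3, 2, 4, 3], [2, 3, 1, 4, 3, 2], [2, 0, 3, 1, 4, 3], [2, 3, 1, 4, 3], [2, 0, 3, 2, 4], [2, 0, 3, 1, 2, 4], [2, 0, 3, 4], [2, 3, 4], [2, 0, 3, 1, 4], [2, 3, 1, 4], [2, 0, 3, 2, 4, 3, 5, 4], [2, 3, 1, 4, 3, 2, 5, 4], [2, 0, 3, 1, 4, 3, 5, 4], [2, 3, 1, 4, 3, 5, 4], [2, 3, 1, 4, 3, 2, 5, 4, 3, 1], [2, 3, 1, 4, 3, 2, 5, 4, 3], [2, 0, 3, 2, 4, 3, 5], [2, 3, 1, 4, 3, 2, 5], [2, 0, 3, 1, 4, 3, 5], [2, 3, 1, 4, 3, 5], [2, 0, 3, 2, 4, 5], [2, 0, 3, 1, 2, 4, 5], [2, 0, 3,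 4, 5], [2, 3, 4, 5], [2, 0, 3, 1, 4, 5], [2, 3, 1, 4, 5], [2, 0, 3, 2, 4, 3, 5, 4, 6, 5], [2, 3, 1, 4, 3, 2, 5, 4, 6, 5], [2, 0, 3, 1, 4, 3, 5, 4, 6, 5], [2, 3, 1, 4, 3, 5, 4, 6, 5], [2, 3, 1, 4, 3, 2, 5, 4, 3, 1, 6, 5], [2, 3, 1, 4, 3, 2, 5, 4, 3, 6, 5], [2, 3, 1, 4, 3, 2, 5, 4, 3, 1, 6, 5, 4, 3], [2, 3, 1, 4, 3, 2, 5, 4, 3, 1, 6, 5, 4, 3, 2, 0, 7, 6, 5, 4, 3, 1, 2, 3, 4, 5, 6, 7], [2, 3, 1, 4, 3, 2, 5, 4, 3, 1, 6, 5, 4, 3, 2, 0], [2, 3, 1, 4, 3, 2, 5, 4, 3, 1, 6, 5, 4, 3, 2], [2, 3, 1, 4, 3, 2, 5, 4, 3, 1, 6, 5, 4], [2, 3, 1, 4, 3, 2, 5, 4, 3, 6, 5, 4], [2, 0, 3, 2, 4, 3, 5, 4, 6], [2, 3, 1, 4, 3, 2, 5, 4, 6], [2, 0, 3, 1, 4, 3, 5, 4, 6], [2, 3, 1, 4, 3, 5, 4, 6], [2, 3, 1, 4, 3, 2, 5, 4, 3, 1, 6], [2, 3, 1, 4, 3, 2, 5, 4, 3, 6], [2, 0, 3, 2, 4, 3, 5, 6], [2, 3, 1, 4, 3, 2, 5, 6], [2, 0, 3, 1,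 4, 3, 5, 6], [2, 3, 1, 4, 3, 5, 6], [2, 0, 3, 2, 4, 5, 6], [2, 0, 3, 1, 2, 4, 5, 6], [2, 0, 3, 4, 5, 6], [2, 3, 4, 5, 6], [2, 0, 3, 1, 4, 5, 6], [2, 3, 1, 4, 5, 6], [2, 0, 3, 2, 4, 3, 5, 4, 6, 5, 7, 6], [2, 3, 1, 4, 3, 2, 5, 4, 6, 5, 7, 6], [2, 0, 3, 1, 4, 3, 5, 4, 6, 5, 7, 6], [2, 3, 1, 4, 3, 5, 4, 6, 5, 7, 6], [2, 3, 1, 4, 3, 2, 5, 4, 3, 1, 6, 5, 7, 6], [2, 3, 1, 4, 3, 2, 5, 4, 3, 6, 5, 7, 6], [2, 3, 1, 4, 3, 2, 5, 4, 3, 1, 6, 5, 4, 3, 7, 6], [2, 3, 1, 4, 3, 2, 5, 4, 3, 1, 6, 5, 4, 3, 2, 0, 7, 6, 5, 4, 3, 1, 2, 3, 4, 5], [2, 3, 1, 4, 3, 2, 5, 4, 3, 1, 6, 5, 4, 3, 2, 0, 7, 6], [2, 3, 1, 4, 3, 2, 5, 4, 3, 1, 6, 5, 4, 3, 2, 7, 6], [2, 3, 1, 4, 3, 2, 5, 4, 3, 1, 6, 5, 4, 7, 6], [2, 3, 1, 4, 3, 2, 5, 4, 3, 6, 5, 4, 7, 6], [2, 3, 1, 4, 3, 2, 5, 4, 3, 1, 6, 5, 4, 3, 7, 6, 5, 4], [2, 3, 1, 4, 3, 2, 5,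 4, 3, 1, 6, 5, 4, 3, 2, 0, 7, 6, 5, 4, 3, 1, 2, 3], [2, 3, 1, 4, 3, 2, 5, 4, 3, 1, 6, 5, 4, 3, 2, 0, 7, 6, 5, 4], [2, 3, 1, 4, 3, 2, 5, 4, 3, 1, 6, 5, 4, 3, 2, 7, 6, 5, 4], [2, 3, 1, 4, 3, 2, 5, 4, 3, 1, 6, 5, 4, 3, 2, 0, 7, 6, 5, 4, 3, 2], [2, 3, 1, 4, 3, 2, 5, 4, 3, 1, 6, 5, 4, 3, 2, 0, 7, 6, 5, 4, 3, 1, 2], [2, 3, 1, 4, 3, 2, 5, 4, 3, 1, 6, 5, 4, 3, 2, 0, 7, 6, 5, 4, 3], [2, 3, 1, 4, 3, 2, 5, 4, 3, 1, 6, 5, 4, 3, 2, 7, 6, 5, 4, 3], [2, 3, 1, 4, 3, 2, 5, 4, 3, 1, 6, 5, 4, 3, 2, 0, 7, 6, 5, 4, 3, 1], [2, 3, 1, 4, 3, 2, 5, 4, 3, 1, 6, 5, 4, 3, 2, 7, 6, 5, 4, 3, 1], [2, 3, 1, 4, 3, 2, 5, 4, 3, 1, 6, 5, 4, 3, 7, 6, 5], [2, 3, 1, 4, 3, 2, 5, 4, 3, 1, 6, 5, 4, 3, 2, 0, 7, 6, 5, 4, 3, 1, 2, 3, 4], [2, 3, 1, 4, 3, 2, 5, 4, 3, 1, 6, 5, 4, 3, 2, 0, 7, 6, 5], [2, 3, 1, 4, 3, 2, 5, 4, 3, 1, 6, 5, 4, 3, 2,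 7, 6, 5], [2, 3, 1, 4, 3, 2, 5, 4, 3, 1, 6, 5, 4, 7, 6, 5], [2, 3, 1, 4, 3, 2, 5, 4, 3, 6, 5, 4, 7, 6, 5], [2, 0, 3, 2, 4, 3, 5, 4, 6, 5, 7], [2, 3, 1, 4, 3, 2, 5, 4, 6, 5, 7], [2, 0, 3, 1, 4, 3, 5, 4, 6, 5, 7], [2, 3, 1, 4, 3, 5, 4, 6, 5, 7], [2, 3, 1, 4, 3, 2, 5, 4, 3, 1, 6, 5, 7], [2, 3, 1, 4, 3, 2, 5, 4, 3, 6, 5, 7], [2, 3, 1, 4, 3, 2, 5, 4, 3, 1, 6, 5, 4, 3, 7], [2, 3, 1, 4, 3, 2, 5, 4, 3, 1, 6, 5, 4, 3, 2, 0, 7, 6, 5, 4, 3, 1, 2, 3, 4, 5, 6], [2, 3, 1, 4, 3, 2, 5, 4, 3, 1, 6, 5, 4, 3, 2, 0, 7], [2, 3, 1, 4, 3, 2, 5, 4, 3, 1, 6, 5, 4, 3, 2, 7], [2, 3, 1, 4, 3, 2, 5, 4, 3, 1, 6, 5, 4, 7], [2, 3, 1, 4, 3, 2, 5, 4, 3, 6, 5, 4, 7], [2, 0, 3, 2, 4, 3, 5, 4, 6, 7], [2, 3, 1, 4, 3, 2, 5, 4, 6, 7], [2, 0, 3, 1, 4, 3, 5, 4, 6, 7], [2, 3, 1, 4, 3, 5, 4, 6, 7], [2, 3, 1, 4, 3, 2, 5, 4, 3, 1, 6, 7], [2,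 3, 1, 4, 3, 2, 5, 4, 3, 6, 7], [2, 0, 3, 2, 4, 3, 5, 6, 7], [2, 3, 1, 4, 3, 2, 5, 6, 7], [2, 0, 3, 1, 4, 3, 5, 6, 7], [2, 3, 1, 4, 3, 5, 6, 7], [2, 0, 3, 2, 4, 5, 6, 7], [2, 0, 3, 1, 2, 4, 5, 6, 7], [2, 0, 3, 4, 5, 6, 7], [2, 3, 4, 5, 6, 7], [2, 0, 3, 1, 4, 5, 6, 7], [2, 3, 1, 4, 5, 6, 7]]

/-- The codes of the orbit. -/
def codesA : List ℕ := [1, 2, 4, 5, 8, 10, 12, 13, 14, 15, 16, 19, 22, 23, 24, 26, 28, 29, 30, 31, 32, 35, 38, 39, 41, 43, 48, 51, 54, 55, 56, 58, 60, 61, 62, 63, 64, 67, 70, 71, 73, 75, 81, 82, 84, 85, 89, 91, 96, 99, 102, 103, 105, 107, 112, 115, 118, 119, 120, 122, 124, 125, 126, 127, 128, 131, 134, 135, 137, 139, 145, 146, 148, 149, 153, 155, 161, 162, 164, 165, 168, 170, 172, 173, 174, 175, 177, 178, 180, 181, 185, 187, 192, 195, 198, 199, 201, 203, 209, 210, 212, 213, 217,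 219, 224, 227, 230, 231, 233, 235, 240, 243, 246, 247, 248, 250, 252, 253, 254, 255]

set_option maxHeartbeats 0 in
theorem cGenA : chkGen fT chevE8 1 maskA gensA = true := by decide +kernel

theorem genA : GenCert chevE8 1 gensA := genCert_of fOk hTbl cGenA

theorem mask_okA : chkMask fT chevE8 1 maskA = true := chkMask_of_chkGen cGenA


set_option maxHeartbeats 0 in
theorem cLevA0 : checkLevelF fT chevE8 maskA gensA [5, 0, 4, 1, 3, 2, 7] 6 [Int.ofNat 2, Int.ofNat 0, Int.negSucc 0, Int.ofNat 0, Int.ofNat 0, Int.ofNat 0, Int.ofNat 0, Int.ofNat 0] levA0 = true := by decide +kernel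

set_option maxHeartbeats 0 in
theorem cLevA1 : checkLevelF fT chevE8 maskA gensA [0, 4, 1, 3, 2, 7] 5 [Int.ofNat 0, Int.ofNat 2, Int.negSucc 0, Int.ofNat 0, Int.ofNat 0, Int.ofNat 0, Int.ofNat 0, Int.ofNat 0] levA1 = true := by decide +kernel

set_option maxHeartbeats 0 in
theorem cLevA2 : checkLevelF fT chevE8 maskA gensA [4, 1, 3, 2, 7] 0 [Int.ofNat 0, Int.ofNat 0, Int.ofNat 0, Int.ofNat 0, Int.ofNat 0, Int.ofNat 0, Int.ofNat 0, Int.ofNat 1] levA2 = true := by decide +kernel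

set_option maxHeartbeats 0 in
theorem cLevA3 : checkLevelF fT chevE8 maskA gensA [1, 3, 2, 7] 4 [Int.ofNat 0, Int.ofNat 0, Int.negSucc 0, Int.ofNat 1, Int.ofNat 0, Int.ofNat 0, Int.ofNat 0, Int.ofNat 0] levA3 = true := by decide +kernel

set_option maxHeartbeats 0 in
theorem cLevA4 : checkLevelF fT chevE8 maskA gensA [3, 2, 7] 1 [Int.ofNat 0, Int.ofNat 0, Int.ofNat 0, Int.ofNat 0, Int.ofNat 0, Int.ofNat 0, Int.ofNat 1, Int.ofNat 0] levA4 = true := by decide +kernel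

set_option maxHeartbeats 0 in
theorem cLevA5 : checkLevelF fT chevE8 maskA gensA [2, 7] 3 [Int.ofNat 0, Int.ofNat 0, Int.negSucc 0, Int.ofNat 0, Int.ofNat 2, Int.ofNat 0, Int.ofNat 0, Int.ofNat 0] levA5 = true := by decide +kernel

set_option maxHeartbeats 0 in
theorem cLevA6 : checkLevelF fT chevE8 maskA gensA [7] 2 [Int.ofNat 0, Int.ofNat 0, Int.ofNat 0, Int.ofNat 0, Int.ofNat 0, Int.ofNat 1, Int.ofNat 0, Int.ofNat 0] levA6 = true := by decide +kernel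

set_option maxHeartbeats 0 in
theorem cLevA7 : checkLevelF fT chevE8 maskA gensA [] 7 [Int.ofNat 0, Int.ofNat 0, Int.ofNat 1, Int.ofNat 0, Int.ofNat 0, Int.ofNat 0, Int.ofNat 0, Int.ofNat 0] levA7 = true := by decide +kernel

theorem chkAF : checkChainF fT chevE8 maskA gensA chainA = true :=
  checkChainF_cons (by decide +kernel) cLevA0 (checkChainF_cons (by decide +kernel) cLevA1 (checkChainF_cons (by decide +kernel) cLevA2 (checkChainF_cons (by decide +kernel) cLevA3 (checkChainF_cons (by decide +kernel) cLevA4 (checkChainF_cons (by decide +kernel) cLevA5 (checkChainF_cons (by decide +kernel) cLevA6 (checkChainF_cons (by decide +kernel) cLevA7 (rfl))))))))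

theorem chkA : checkChain1 chevE8 1 gensA chainA = true :=
  checkChain_of fOk hTbl mask_okA (gens_lt_of_chkGen cGenA) chkAF

set_option maxHeartbeats 0 in
theorem hallA : ∀ i < gensA.length, i ∈ chainA.map Prod.fst := by decide +kernel

set_option maxHeartbeats 0 in
theorem cOrbA : chkOrb fT chevE8 1 wordsA codesA = true := by decide +kernel

theorem orbA : OrbCert chevE8 1 wordsA := orbCert_of fOk hTbl cOrbA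

set_option maxHeartbeats 0 in
theorem polyA : chainPoly (strip chainA) = degPoly [2, 2, 6, 8, 10, 12, 14, 18] := by decide +kernel

set_option maxHeartbeats 0 in
theorem numA : chainSum 1 Cfsg.Agent.Lib.ChevOrder.Cert.E8.chain = chainSum 1 (strip chainA) * wordsA.length := by
  decide +kernel

set_option maxHeartbeats 0 in
theorem repA : RepCert chevE8 Cfsg.Agent.Lib.ChevOrder.Cert.E8.chain 1 [2, 2, 6, 8, 10, 12, 14, 18] :=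
  ⟨gensA, chainA, wordsA, genA, chkA, hallA, orbA, by decide +kernel, numA, polyA⟩

set_option maxHeartbeats 0 in
theorem cCountA : ((List.range chevE8.nroots).filter fun r => maskA.testBit r).length = 64 := by decide +kernel

theorem posLenA : (posOf chevE8 1).length = 64 := by
  rw [posOf_length fOk hTbl mask_okA, cCountA]

end Cfsg.Agent.Lib.ChevOdd.Data.E8
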